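import Groth.Agent.QGor.K969.FibDimOpen
import Groth.Agent.QGor.K970.RelSk2
import Groth.Agent.QGor.K966.SerreBasic
import Groth.Agent.Ega43.FibSch1
import Groth.Agent.Ega43.FibreDimNat
import Groth.Agent.FibDim.K582.RelDim
import Groth.Agent.CycB.PushStalk
import Groth.Agent.S0402
import Groth.Agent.S2551
import Groth.Agent.S0420
import Groth.Agent.Ega4fib.H112.FibreFormula
import Groth.Agent.Ega4fib.H172.FibDimBC

/-!
# The fibre dimension of a flat morphism near a point where the fibre is `(S_k)`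

* `skAt_structureModule_iff`: `SkAt` of the structure module in terms of the local ring;
* `exists_open_le_fibreDimAt`: the fibre dimension does not drop near a point where the fibre is `(S_2)`;
* `exists_open_hasRelDim_isSkMor`: a flat morphism is an `(S_k)`-morphism of pure relative dimension near a point
  where the fibre is `(S_k)`, `2 ≤ k`.
-/

set_option autoImplicit false
universe u

open CategoryTheory AlgebraicGeometry

namespace K969.FibDimSch

open Groth.Agent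

/-- `SkAt` for the structure module is Serre's condition for the local ring. -/
theorem skAt_structureModule_iff {X : Scheme.{u}} (k : ℕ) (x : X) :
    RelCanon.SkAt k (Coh.structureModule X) x ↔
      LocCoh.HasSk k (X.presheaf.stalk x) (X.presheaf.stalk x) :=
  ⟨Ega4B.DepthBasic.hasSk_of_equiv k (CycB.PushStalk.unitStalk X x).symm,
    Ega4B.DepthBasic.hasSk_of_equiv k (CycB.PushStalk.unitStalk X x)⟩

theorem exists_open_le_fibreDimAt {X Y : Scheme.{u}} (f : X ⟶ Y) [Flat f] [LocallyOfFiniteType f]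
    [IsLocallyNoetherian X] [IsLocallyNoetherian Y] (x : X)
    (hS : LocCoh.HasSk 2 ((f.fiber (f x)).presheaf.stalk (f.asFiber x))
      ((f.fiber (f x)).presheaf.stalk (f.asFiber x))) (e : ℕ) (he : FlatMor.fibreDimAt f x = e) :
    ∃ U : X.Opens, x ∈ U ∧ ∀ z ∈ U, (e : WithBot ℕ∞) ≤ FlatMor.fibreDimAt f z := by
  obtain ⟨V, hV, hxV, -⟩ := exists_isAffineOpen_mem_and_subset (U := ⊤) (x := f x) (by trivial)
  obtain ⟨U, hU, hxU, hUV⟩ := exists_isAffineOpen_mem_and_subset (U := f ⁻¹ᵁ V) (x := x) hxV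
  have e' : U ≤ f ⁻¹ᵁ V := hUV
  let := (f.appLE V U e').hom.toAlgebra
  have hft : (f.appLE V U e').hom.FiniteType := f.finiteType_appLE hV hU e'
  have : Algebra.FiniteType Γ(Y, V) Γ(X, U) := hft
  have hflat : (f.appLE V U e').hom.Flat := f.flat_appLE hV hU e'
  have _ : Module.Flat Γ(Y, V) Γ(X, U) := hflat
  have hN : IsNoetherianRing Γ(Y, V) := IsLocallyNoetherian.component_noetherian ⟨V, hV⟩
  have hN' : IsNoetherianRing Γ(X, U) := IsLocallyNoetherian.component_noetherian ⟨U, hU⟩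
  have : Algebra.FinitePresentation Γ(Y, V) Γ(X, U) := Algebra.FinitePresentation.of_finiteType.mp inferInstance
  obtain ⟨E⟩ := Ega43.FibSch1.nonempty_fibLocRing_equiv f hV hU e' rfl x hxU
  set q : PrimeSpectrum Γ(X, U) := hU.primeIdealOf ⟨x, hxU⟩ with hq
  have hS' : LocCoh.HasSk 2 (EGA4.FibLocRing Γ(Y, V) Γ(X, U) q.asIdeal)
      (EGA4.FibLocRing Γ(Y, V) Γ(X, U) q.asIdeal) :=
    (K970.RelSk1.hasSk_iff_of_semilinearEquiv 2 E E.toAddEquiv (fun r m => map_mul E r m)).mpr hS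
  have he2 : FlatMor.localDim (PrimeSpectrum.comap (algebraMap Γ(Y, V) Γ(X, U)) ⁻¹'
      {PrimeSpectrum.comap (algebraMap Γ(Y, V) Γ(X, U)) q}) ⟨q, rfl⟩ = e := by
    rw [← he]
    have h1 := FlatA.FibreDim.fibreDimAt_fromSpec f hV hU e' q
    rw [hU.fromSpec_primeIdealOf ⟨x, hxU⟩] at h1
    exact h1.symm
  obtain ⟨W, hW, hqW, hle⟩ := FibDimOpen.exists_open_le (A := Γ(Y, V)) (B := Γ(X, U)) q hS' e he2
  refine ⟨⟨hU.fromSpec '' W, hU.fromSpec.isOpenEmbedding.isOpenMap _ hW⟩,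
    ⟨q, hqW, hU.fromSpec_primeIdealOf ⟨x, hxU⟩⟩, ?_⟩
  rintro _ ⟨q₁, hq₁, rfl⟩
  rw [FlatA.FibreDim.fibreDimAt_fromSpec f hV hU e' q₁]
  exact hle q₁ hq₁

/-- The local ring of the fibre, for the restriction to an open subscheme of the source. -/
theorem nonempty_asFiber_equiv_restrict {X Y : Scheme.{u}} (f : X ⟶ Y) (U : X.Opens) (x : U) :
    Nonempty ((f.fiber (f (U.ι x))).presheaf.stalk (f.asFiber (U.ι x)) ≃+*
      ((U.ι ≫ f).fiber ((U.ι ≫ f) x)).presheaf.stalk ((U.ι ≫ f).asFiber x)) := by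
  obtain ⟨e₁⟩ := Flat2D.FiberStalk.nonempty_asFiber_stalkEquiv f (U.ι x)
  obtain ⟨e₂⟩ := Flat2D.FiberStalk.nonempty_asFiber_stalkEquiv (U.ι ≫ f) x
  have h := K970.RelSk2.fibreIdeal_map_stalkMap f U.ι x
  exact ⟨e₁.symm.trans ((Ideal.quotientEquiv _ _ (asIso (U.ι.stalkMap x)).commRingCatIsoToRingEquiv
    h.symm).trans e₂)⟩

theorem hasSk_of_ringEquiv (k : ℕ) {R S : Type*} [CommRing R] [CommRing S] (e : R ≃+* S)
    (h : LocCoh.HasSk k R R) : LocCoh.HasSk k S S :=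
  (K970.RelSk1.hasSk_iff_of_semilinearEquiv k e e.toAddEquiv (fun r m => map_mul e r m)).mp h

theorem skAt_restrict {X Y : Scheme.{u}} (f : X ⟶ Y) (U : X.Opens) (k : ℕ) (x : U)
    (h : RelCanon.SkAt k (Coh.structureModule (f.fiber (f (U.ι x)))) (f.asFiber (U.ι x))) :
    RelCanon.SkAt k (Coh.structureModule ((U.ι ≫ f).fiber ((U.ι ≫ f) x))) ((U.ι ≫ f).asFiber x) := by
  obtain ⟨e⟩ := nonempty_asFiber_equiv_restrict f U x
  rw [skAt_structureModule_iff] at h ⊢
  exact hasSk_of_ringEquiv k e h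

/-- A flat morphism is an `(S_k)`-morphism of pure relative dimension on all small neighbourhoods of a point where
the fibre is `(S_k)`, `2 ≤ k`. -/
theorem exists_open_hasRelDim_isSkMor {X Y : Scheme.{u}} (f : X ⟶ Y) [Flat f] [LocallyOfFiniteType f]
    [IsLocallyNoetherian X] [IsLocallyNoetherian Y] (k : ℕ) (hk : 2 ≤ k) (x : X)
    (hS : RelCanon.SkAt k (Coh.structureModule (f.fiber (f x))) (f.asFiber x)) :
    ∃ (U : X.Opens) (e : ℕ), x ∈ U ∧
      (∀ z ∈ U, RelCanon.SkAt k (Coh.structureModule (f.fiber (f z))) (f.asFiber z)) ∧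
      (∀ z ∈ U, FlatMor.fibreDimAt f z = e) ∧
      ∀ V : X.Opens, V ≤ U → RelCanon.IsSkMor (V.ι ≫ f) k ∧ Cyc.HasRelDim (V.ι ≫ f) e := by
  have hfp : LocallyOfFinitePresentation f := by
    infer_instance
  obtain ⟨e, he⟩ := Ega43.FibreDimNat.exists_natCast_fibreDimAt f x
  have hS' := (skAt_structureModule_iff k _).mp hS
  obtain ⟨U₁, hxU₁, hU₁⟩ := exists_open_le_fibreDimAt f x (K966.SerreBasic.hasSk_mono hk hS') e he
  let U₂ : X.Opens := ⟨_, S0402.result f e⟩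
  let U₃ : X.Opens := ⟨_, S2551.result f k⟩
  have h3 : ∀ z ∈ U₃, RelCanon.SkAt k (Coh.structureModule (f.fiber (f z))) (f.asFiber z) :=
    fun z hz => (skAt_structureModule_iff k _).mpr hz
  have hdim : ∀ z ∈ U₁ ⊓ U₂ ⊓ U₃, FlatMor.fibreDimAt f z = e := fun z hz =>
    le_antisymm hz.1.2 (hU₁ z hz.1.1)
  refine ⟨U₁ ⊓ U₂ ⊓ U₃, e, ⟨⟨hxU₁, he.le⟩, hS'⟩, fun z hz => h3 z hz.2, hdim, fun V hV => ⟨⟨?_, ?_, ?_⟩, ?_⟩⟩
  · infer_instance
  · infer_instance
  · intro z
    exact skAt_restrict f V k z (h3 _ (hV z.2).2)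
  · rw [K582.FibRelDim.hasRelDim_iff]
    intro z
    rw [K582.FibRelDim.fibreDimAt_comp_isOpenImmersion]
    exact hdim _ (hV z.2)

/-- The codimension of a closed subset in the fibres is lower semicontinuous where the fibre dimension is constant. -/
theorem exists_open_codim_ge {X Y : Scheme.{u}} (f : X ⟶ Y) [LocallyOfFiniteType f] (e : ℕ) (U : X.Opens)
    (hU : ∀ z ∈ U, FlatMor.fibreDimAt f z = e) (y : X) (hyU : y ∈ U) (Yo : X.Opens) (c : WithBot ℕ∞)
    (hc : ∀ z : X, f z = f y → z ∉ Yo → z ⤳ y →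
      c ≤ ringKrullDim ((f.fiber (f z)).presheaf.stalk (f.asFiber z))) :
    ∃ V : X.Opens, V ≤ U ∧ y ∈ V ∧
      ∀ z ∈ V, z ∉ Yo → c ≤ ringKrullDim ((f.fiber (f z)).presheaf.stalk (f.asFiber z)) := by
  by_cases hy : y ∈ Yo
  · exact ⟨U ⊓ Yo, inf_le_left, ⟨hyU, hy⟩, fun z hz hz' => absurd hz.2 hz'⟩
  let W : TopologicalSpace.Closeds X := ⟨(Yo : Set X)ᶜ, Yo.isOpen.isClosed_compl⟩
  let i := (Scheme.IdealSheafData.vanishingIdeal W).subschemeι
  have hrange : Set.range i = (Yo : Set X)ᶜ := S0420.range_subschemeι _ Yo.isOpen.isClosed_compl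
  have hrtd : ∀ w, CycB.RelDim.rtd (i ≫ f) w = CycB.RelDim.rtd f (i w) := fun w => by
    rw [CycB.RelDim.rtd_comp, CycB.RelDim.rtd_eq_zero_of_isPreimmersion i w, add_zero]
  obtain ⟨y', hy'⟩ : y ∈ Set.range i := by rw [hrange]; exact hy
  obtain ⟨w, hw, hfw, -, n, hn, hn'⟩ :=
    Ega4fib.H172.FibDimBC.exists_fibGeneric_rtd_eq (i ≫ f) y'
  -- the inequality at the point `y`
  have hwy : i w ⤳ y := by
    rw [← hy']
    exact hw.map i.continuous
  have hwU : i w ∈ U := hwy.mem_open U.isOpen hyU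
  have hwo : i w ∉ Yo := by
    have : i w ∈ Set.range i := ⟨w, rfl⟩
    rw [hrange] at this
    exact this
  have hfwy : f (i w) = f y := by
    rw [← hy']
    exact hfw
  have h1 := hc (i w) hfwy hwo hwy
  have h2 := Ega4fib.H112.FibreFormula.fibreDimAt_eq_add f (i w) n (by rw [← hrtd]; exact hn)
  rw [hU _ hwU] at h2
  have h3 : c + (n : ℕ) ≤ (e : WithBot ℕ∞) := by
    rw [h2]
    gcongr
  -- the neighbourhood
  have hopen := S0402.result (i ≫ f) n
  obtain ⟨V, hV, hVe⟩ := i.isEmbedding.isInducing.isOpen_iff.mp hopen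
  refine ⟨U ⊓ ⟨V, hV⟩, inf_le_left, ⟨hyU, ?_⟩, ?_⟩
  · change y ∈ V
    rw [← hy']
    change y' ∈ i ⁻¹' V
    rw [hVe]
    exact hn'.le
  · intro z hz hzo
    obtain ⟨z', rfl⟩ : z ∈ Set.range i := by rw [hrange]; exact hzo
    have hz' : z' ∈ i ⁻¹' V := hz.2
    rw [hVe] at hz'
    obtain ⟨m, hm, hm'⟩ := VarietyA.LocDim.le_fibreDimAt (i ≫ f) z' z' (specializes_refl _) rfl
    have hmn : m ≤ n := by exact_mod_cast hm'.trans hz'
    have h4 := Ega4fib.H112.FibreFormula.fibreDimAt_eq_add f (i z') m (by rw [← hrtd]; exact hm)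
    rw [hU _ hz.1] at h4
    rw [h4] at h3
    rw [← ENat.WithBot.add_le_add_natCast_right_iff (c := m)]
    refine le_trans ?_ h3
    gcongr

end K969.FibDimSch
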