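import Groth.Agent.QGor.K969.UnitLoc
import Groth.Agent.QGor.K970.BCHyp
import Groth.Agent.Ega3B.PullTensor

/-!
# Reflexive powers on a fibre

* `nonempty_restrict_of_comp`, `nonempty_restrict_restrict`: restricting an isomorphism over an open subscheme;
* `nonempty_pullback_restrict`: `(p^* F)|_{p⁻¹ U} = (p|)^* (F|_U)`;
* `nonempty_pullback_refPowZ`: `(p^* F^{[m]})|_{p⁻¹ U} = ((p^* F)|_{p⁻¹ U})^{[m]}` when `F` is invertible on `U`;
* `invertibleAt_refPowZ_fibre`, `gorIndex_fibre`.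
-/

set_option autoImplicit false
universe u

open CategoryTheory AlgebraicGeometry TopologicalSpace RefHull RelCanon

namespace K969.FibRef

open Groth.Agent Groth.Agent.CohqB.QC2 K969.RefU K969.UnitLoc

variable {X Y Z W : Scheme.{u}}

theorem nonempty_restrict_of_comp (a : Z ⟶ X) [IsOpenImmersion a] (b : W ⟶ X) [IsOpenImmersion b]
    (k : Z ⟶ W) (hk : k ≫ b = a) {F G : X.Modules} (e : Nonempty (F.restrict b ≅ G.restrict b)) :
    Nonempty (F.restrict a ≅ G.restrict a) := by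
  obtain ⟨e⟩ := e
  have hkb : IsOpenImmersion (k ≫ b) := by rw [hk]; infer_instance
  have hko : IsOpenImmersion k := IsOpenImmersion.of_comp k b
  have c : ∀ H : X.Modules, Nonempty (H.restrict a ≅ (H.restrict b).restrict k) := fun H =>
    ⟨(Scheme.Modules.restrictFunctorCongr hk.symm).app H ≪≫
      (Scheme.Modules.restrictFunctorComp k b).app H⟩
  obtain ⟨c1⟩ := c F
  obtain ⟨c2⟩ := c G
  exact ⟨c1 ≪≫ (Scheme.Modules.restrictFunctor k).mapIso e ≪≫ c2.symm⟩

/-- An isomorphism over `U` induces one over `V ∩ U`, as an open subscheme of `V`. -/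
theorem nonempty_restrict_restrict (V U : X.Opens) {F G : X.Modules}
    (e : Nonempty (F.restrict U.ι ≅ G.restrict U.ι)) :
    Nonempty ((F.restrict V.ι).restrict (V.ι ⁻¹ᵁ U).ι ≅
      (G.restrict V.ι).restrict (V.ι ⁻¹ᵁ U).ι) := by
  have c : ∀ H : X.Modules, Nonempty (H.restrict ((V.ι ⁻¹ᵁ U).ι ≫ V.ι) ≅
      (H.restrict V.ι).restrict (V.ι ⁻¹ᵁ U).ι) := fun H =>
    ⟨(Scheme.Modules.restrictFunctorComp _ _).app H⟩
  have hk : IsOpenImmersion.lift U.ι ((V.ι ⁻¹ᵁ U).ι ≫ V.ι) (by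
      rintro _ ⟨y, rfl⟩
      rw [Scheme.Opens.range_ι]
      exact y.2) ≫ U.ι = (V.ι ⁻¹ᵁ U).ι ≫ V.ι := IsOpenImmersion.lift_fac _ _ _
  obtain ⟨e'⟩ := nonempty_restrict_of_comp _ U.ι _ hk e
  obtain ⟨c1⟩ := c F
  obtain ⟨c2⟩ := c G
  exact ⟨c1.symm ≪≫ e' ≪≫ c2⟩

/-- Inverse image and restriction to an open subscheme of the target. -/
theorem nonempty_pullback_restrict (p : X ⟶ Y) (U : Y.Opens) (F : Y.Modules) :
    Nonempty (((Scheme.Modules.pullback p).obj F).restrict (p ⁻¹ᵁ U).ι ≅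
      (Scheme.Modules.pullback (p ∣_ U)).obj (F.restrict U.ι)) := by
  have h : (p ⁻¹ᵁ U).ι ≫ p = (p ∣_ U) ≫ U.ι := (morphismRestrict_ι p U).symm
  exact ⟨(Scheme.Modules.restrictFunctorIsoPullback (p ⁻¹ᵁ U).ι).app _ ≪≫
    (Scheme.Modules.pullbackComp (p ⁻¹ᵁ U).ι p).app F ≪≫
    (Scheme.Modules.pullbackCongr h).app F ≪≫
    ((Scheme.Modules.pullbackComp (p ∣_ U) U.ι).app F).symm ≪≫
    (Scheme.Modules.pullback (p ∣_ U)).mapIso
      ((Scheme.Modules.restrictFunctorIsoPullback U.ι).app F).symm⟩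

/-- Reflexive powers and inverse images, over an open subscheme over which the module is invertible. -/
theorem nonempty_pullback_refPowZ [IsLocallyNoetherian X] [IsLocallyNoetherian Y] (p : X ⟶ Y)
    (U : Y.Opens) (F : Y.Modules) (hF : ∀ z ∈ U, InvertibleAt F z) (m : ℕ) :
    Nonempty (((Scheme.Modules.pullback p).obj (refPowZ F m)).restrict (p ⁻¹ᵁ U).ι ≅
      refPowZ (((Scheme.Modules.pullback p).obj F).restrict (p ⁻¹ᵁ U).ι) m) := by
  have hFU : PicF.IsInvertible (F.restrict U.ι) := by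
    intro x
    exact (K970.InvAt.invertibleAt_restrict_iff U.ι F x).mpr (hF _ x.2)
  obtain ⟨e1⟩ := nonempty_pullback_restrict p U (refPowZ F m)
  obtain ⟨e2⟩ := nonempty_restrict_refPowZ U.ι F m
  obtain ⟨e3⟩ := nonempty_refPowZ_iso_tensorPow hFU m
  obtain ⟨e4⟩ := Ega3B.PullTensor.nonempty_pullPowIso (p ∣_ U) hFU m
  obtain ⟨e5⟩ := nonempty_pullback_restrict p U F
  obtain ⟨e6⟩ := nonempty_tensorPow_iso e5.symm m
  have h7 : PicF.IsInvertible (((Scheme.Modules.pullback p).obj F).restrict (p ⁻¹ᵁ U).ι) := by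
    intro x
    exact (K970.InvAt.invertibleAt_restrict_iff _ _ x).mpr
      (K970.InvAt.invertibleAt_pullback p F _ (hF _ x.2))
  obtain ⟨e7⟩ := nonempty_refPowZ_iso_tensorPow h7 m
  exact ⟨e1 ≪≫ (Scheme.Modules.pullback (p ∣_ U)).mapIso (e2 ≪≫ e3) ≪≫ e4 ≪≫ e6 ≪≫ e7.symm⟩

/-- Sections of an invertible module extend if functions do. -/
theorem res_bijective_of_invertible [IsLocallyNoetherian X] (V U : X.Opens)
    (hO : ∀ W : X.Opens, W ≤ V → Function.Bijective
      (res (Coh.structureModule X) (inf_le_left : W ⊓ U ≤ W)))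
    (P : X.Modules) (hP : ∀ z ∈ V, InvertibleAt P z) :
    ∀ W : X.Opens, W ≤ V → Function.Bijective (res P (inf_le_left : W ⊓ U ≤ W)) := by
  rw [← isIso_unit_restrict_iff] at hO ⊢
  have hPV : PicF.IsInvertible (P.restrict V.ι) := by
    intro x
    exact (K970.InvAt.invertibleAt_restrict_iff V.ι P x).mpr (hP _ x.2)
  obtain ⟨e⟩ := nonempty_ddual_iso hPV
  exact isIso_unit_of_iso _ e (K967.HomUnit.isIso_unit_ddual _ _
    (isIso_unit_of_iso _ (Scheme.Modules.restrictUnitIso V.ι) hO))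

/-- If `P` is invertible on `V` and agrees with `F^{[m]}` on `U`, then `F^{[m]}` is invertible on `V`,
if functions and sections of `F^{[m]}` extend from `U ∩ V` to `V`. -/
theorem invertibleAt_of_agree [IsLocallyNoetherian X] (V U : X.Opens)
    (hO : ∀ W : X.Opens, W ≤ V → Function.Bijective
      (res (Coh.structureModule X) (inf_le_left : W ⊓ U ≤ W)))
    (P G : X.Modules) (hP : ∀ z ∈ V, InvertibleAt P z)
    (hG : ∀ W : X.Opens, W ≤ V → Function.Bijective (res G (inf_le_left : W ⊓ U ≤ W)))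
    (e : Nonempty (P.restrict U.ι ≅ G.restrict U.ι)) {x : X} (hx : x ∈ V) : InvertibleAt G x := by
  have h1 := (isIso_unit_restrict_iff V U P).mpr (res_bijective_of_invertible V U hO P hP)
  have h2 := (isIso_unit_restrict_iff V U G).mpr hG
  obtain ⟨e'⟩ := nonempty_restrict_restrict V U e
  obtain ⟨e''⟩ := nonempty_iso_of_unit (V.ι ⁻¹ᵁ U) h1 h2 e'
  have h3 : InvertibleAt (P.restrict V.ι) ⟨x, hx⟩ :=
    (K970.InvAt.invertibleAt_restrict_iff V.ι P ⟨x, hx⟩).mpr (hP x hx)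
  exact (K970.InvAt.invertibleAt_restrict_iff V.ι G ⟨x, hx⟩).mp
    (K970.InvAt.invertibleAt_of_iso e'' _ h3)

end K969.FibRef
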