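import Groth.Agent.QGor.K968.Compare4
import Groth.Agent.QGor.K969.FibRef
import Groth.Agent.S0341
import Groth.Agent.S1341

/-!
# The relative canonical sheaf on the Gorenstein locus

* `invertibleAt_of_mem_gorLocus`: it is invertible there;
* `nonempty_fibre_iso`: its restriction to a fibre agrees there with the canonical sheaf of the fibre;
* `exists_fibre_map`: the base change map to the fibre, if the complement has codimension `≥ 2` in the fibre.
-/

set_option autoImplicit false
universe u

open CategoryTheory AlgebraicGeometry TopologicalSpace RefHull RelCanon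

namespace K969.BCIso

open Groth.Agent

theorem isCMAt_of_mem_gorLocus {X S : Scheme.{u}} {f : X ⟶ S} {x : X} (h : x ∈ gorLocus f) :
    MoreMor.IsCMAt f x :=
  ⟨h.1, have := h.2; S0341.result _⟩

variable (A : Type u) [CommRing A] [IsNoetherianRing A] {Y : Scheme.{u}} [Y.Over (Spec (CommRingCat.of A))]
  [IsProper (Y ↘ Spec (CommRingCat.of A))] [Flat (Y ↘ Spec (CommRingCat.of A))] {d : ℕ}
  (hd : Cyc.HasRelDim (Y ↘ Spec (CommRingCat.of A)) d)
  {ω : Y.Modules} (hω : RelCanon.IsDualizingSheaf A Y d ω)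

include hd hω

/-- The relative canonical sheaf is invertible on the relative Gorenstein locus. -/
theorem invertibleAt_of_mem_gorLocus {z : Y} (hz : z ∈ gorLocus (Y ↘ Spec (CommRingCat.of A))) :
    InvertibleAt ω z := by
  have hfp : LocallyOfFinitePresentation (Y ↘ Spec (CommRingCat.of A)) :=
    K968.Compare2.lofp (Y ↘ Spec (CommRingCat.of A))
  let V : Y.Opens := ⟨_, (S1341.result (Y ↘ Spec (CommRingCat.of A))).1⟩
  exact (K968.Compare4.mem_gorLocus_iff A hd hω V (fun x hx => hx) (x := z)
    (isCMAt_of_mem_gorLocus hz)).mp hz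

/-- Passage to a fibre, over an open subset of the relative Cohen–Macaulay locus. -/
theorem nonempty_fibre_iso (V : Y.Opens)
    (hCM : ∀ x ∈ V, MoreMor.IsCMAt (Y ↘ Spec (CommRingCat.of A)) x)
    (t : Spec (CommRingCat.of A)) (ωt : ((Y ↘ Spec (CommRingCat.of A)).fiber t).Modules)
    (hωt : @RelCanon.IsDualizingSheaf ((Spec (CommRingCat.of A)).residueField t) _
      ((Y ↘ Spec (CommRingCat.of A)).fiber t)
      ⟨(Y ↘ Spec (CommRingCat.of A)).fiberToSpecResidueField t⟩ d ωt) :
    Nonempty (((Scheme.Modules.pullback ((Y ↘ Spec (CommRingCat.of A)).fiberι t)).obj ω).restrict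
      ((Y ↘ Spec (CommRingCat.of A)).fiberι t ⁻¹ᵁ V).ι ≅
        ωt.restrict ((Y ↘ Spec (CommRingCat.of A)).fiberι t ⁻¹ᵁ V).ι) := by
  let f := Y ↘ Spec (CommRingCat.of A)
  let κ : Type u := (Spec (CommRingCat.of A)).residueField t
  let _ : (f.fiber t).Over (Spec (CommRingCat.of κ)) := ⟨f.fiberToSpecResidueField t⟩
  have hp : IsPullback (f.fiberι t) ((f.fiber t) ↘ Spec (CommRingCat.of κ)) f
      ((Spec (CommRingCat.of A)).fromSpecResidueField t) := IsPullback.of_hasPullback _ _
  obtain ⟨e⟩ := K968.Compare4.nonempty_restrict_iso A hd hω κ hp hωt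
    (isPullback_morphismRestrict (f.fiberι t) V) (fun x => hCM _ x.2)
  obtain ⟨e'⟩ := FibRef.nonempty_pullback_restrict (f.fiberι t) V ω
  exact ⟨e' ≪≫ e.symm⟩

end K969.BCIso
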