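import Groth.Agent.QGor.K969.RefU
import Groth.Agent.QGor.K969.FibDimSch
import Groth.Agent.QGor.K967.FibDepth

/-!
# Extension of sections across closed subsets of fibre codimension `≥ 2`, locally on the source

* `res_structure_bijective`: `O_X(W) = O_X(W ∩ U)` for `W ⊆ V`, if `V → Y` is an `(S_2)`-morphism and `V ∖ U` has fibre
  codimension `≥ 2`;
* `res_refPowZ_bijective`: the same for `F^{[m]}`;
* `nonempty_restrict_iso`: `j_* ((F|_U)^{⊗ r})` is `F^{[r]}` on `V`, if `F` is invertible on `U`.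
-/

set_option autoImplicit false
universe u

open CategoryTheory AlgebraicGeometry TopologicalSpace RefHull RelCanon

namespace K969.UnitLoc

open Groth.Agent Groth.Agent.CohqB.QC2 K969.RefU

variable {X Y : Scheme.{u}}

theorem ringKrullDim_asFiber_restrict (f : X ⟶ Y) (V : X.Opens) (z : V) :
    ringKrullDim ((f.fiber (f (V.ι z))).presheaf.stalk (f.asFiber (V.ι z))) =
      ringKrullDim (((V.ι ≫ f).fiber ((V.ι ≫ f) z)).presheaf.stalk ((V.ι ≫ f).asFiber z)) := by
  obtain ⟨e⟩ := K969.FibDimSch.nonempty_asFiber_equiv_restrict f V z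
  exact ringKrullDim_eq_of_ringEquiv e

theorem res_of_iso {F G : X.Modules} (e : F ≅ G) (U V : X.Opens)
    (h : ∀ W : X.Opens, W ≤ V → Function.Bijective (res F (inf_le_left : W ⊓ U ≤ W))) :
    ∀ W : X.Opens, W ≤ V → Function.Bijective (res G (inf_le_left : W ⊓ U ≤ W)) := by
  rw [← isIso_unit_restrict_iff] at h ⊢
  exact isIso_unit_of_iso _ ((Scheme.Modules.restrictFunctor V.ι).mapIso e) h

section Fib

variable (f : X ⟶ Y) [IsLocallyNoetherian X] [IsLocallyNoetherian Y] (V U : X.Opens)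
  (hS : IsSkMor (V.ι ≫ f) 2)
  (hcod : ∀ z : X, z ∈ V → z ∉ U →
    (2 : WithBot ℕ∞) ≤ ringKrullDim ((f.fiber (f z)).presheaf.stalk (f.asFiber z)))

include hS hcod

theorem isIso_unit_structure_restrict :
    IsIso ((Scheme.Modules.restrictAdjunction (V.ι ⁻¹ᵁ U).ι).unit.app
      (Coh.structureModule (V : Scheme.{u}))) := by
  have := hS.1
  have := hS.2.1
  have hV : IsLocallyNoetherian (V : Scheme.{u}) := inferInstance
  refine K967.FibDepth.isIso_unit_structure (V.ι ≫ f) hS (V.ι ⁻¹ᵁ U) fun z hz => ?_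
  rw [← ringKrullDim_asFiber_restrict]
  exact hcod _ z.2 hz

theorem res_structure_bijective : ∀ W : X.Opens, W ≤ V → Function.Bijective
    (res (Coh.structureModule X) (inf_le_left : W ⊓ U ≤ W)) := by
  rw [← isIso_unit_restrict_iff]
  exact isIso_unit_of_iso _ (Scheme.Modules.restrictUnitIso V.ι).symm
    (isIso_unit_structure_restrict f V U hS hcod)

theorem res_refPowZ_bijective (F : X.Modules) (m : ℤ) : ∀ W : X.Opens, W ≤ V → Function.Bijective
    (res (refPowZ F m) (inf_le_left : W ⊓ U ≤ W)) := by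
  rw [← isIso_unit_restrict_iff]
  obtain ⟨e⟩ := nonempty_restrict_refPowZ V.ι F m
  exact isIso_unit_of_iso _ e.symm (K967.HomUnit.isIso_unit_refPowZ (F.restrict V.ι) _
    (isIso_unit_structure_restrict f V U hS hcod) m)

end Fib

/-- The unit of restriction to `U` is an isomorphism over `V` if sections over opens of `V` extend uniquely. -/
theorem isIso_map_unit (F : X.Modules) (V U : X.Opens)
    (h : ∀ W : X.Opens, W ≤ V → Function.Bijective (res F (inf_le_left : W ⊓ U ≤ W))) :
    IsIso ((Scheme.Modules.restrictFunctor V.ι).map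
      ((Scheme.Modules.restrictAdjunction U.ι).unit.app F)) := by
  rw [Scheme.Modules.Hom.isIso_iff_isIso_app]
  intro W'
  have hW : V.ι ''ᵁ W' ≤ V := by
    have := V.ι.image_le_opensRange W'
    rwa [Scheme.Opens.opensRange_ι] at this
  have h1 := h (V.ι ''ᵁ W') hW
  rw [ConcreteCategory.isIso_iff_bijective]
  have hle : U.ι ''ᵁ U.ι ⁻¹ᵁ (V.ι ''ᵁ W') ≤ V.ι ''ᵁ W' := U.ι.image_preimage_le _
  have heq : V.ι ''ᵁ W' ⊓ U = U.ι ''ᵁ U.ι ⁻¹ᵁ (V.ι ''ᵁ W') := by
    rw [Scheme.Hom.image_preimage_eq_opensRange_inf, Scheme.Opens.opensRange_ι, inf_comm]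
  have h2 : res F hle = (res F heq.ge).comp (res F (inf_le_left : V.ι ''ᵁ W' ⊓ U ≤ V.ι ''ᵁ W')) := by
    ext m
    simp [res_res]
  have h3 := res_injective_of_eq F heq.ge heq
  change Function.Bijective (res F hle)
  rw [h2]
  exact h3.comp h1

/-- The direct image of `F|_U` is `F` over `V` if sections of `F` over opens of `V` extend uniquely. -/
theorem nonempty_restrict_pushforward_iso (F : X.Modules) (V U : X.Opens) {G : (U : Scheme.{u}).Modules}
    (e : F.restrict U.ι ≅ G)
    (h : ∀ W : X.Opens, W ≤ V → Function.Bijective (res F (inf_le_left : W ⊓ U ≤ W))) :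
    Nonempty (F.restrict V.ι ≅ ((Scheme.Modules.pushforward U.ι).obj G).restrict V.ι) := by
  have := isIso_map_unit F V U h
  exact ⟨asIso ((Scheme.Modules.restrictFunctor V.ι).map
      ((Scheme.Modules.restrictAdjunction U.ι).unit.app F)) ≪≫
    (Scheme.Modules.restrictFunctor V.ι).mapIso ((Scheme.Modules.pushforward U.ι).mapIso e)⟩

end K969.UnitLoc
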