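import Groth.Agent.QGor.K969.FieldSch
import Groth.Agent.QGor.K970.BCHyp
import Groth.Agent.S1342

/-!
# The relative canonical sheaf of a Cohen–Macaulay morphism is relatively Cohen–Macaulay

`relSkAt_and_support`: given that `ω` is flat over the base and dualizing on every fibre.
-/

set_option autoImplicit false
universe u

open CategoryTheory AlgebraicGeometry Limits

namespace K969.CM36

open Groth.Agent

/-- The support of a module contains the support of its restriction to a fibre. -/
theorem mem_support_of_mem_support_pullback {X Y : Scheme.{u}} (p : Y ⟶ X) (F : X.Modules) (y : Y)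
    (h : y ∈ CohB1.support ((Scheme.Modules.pullback p).obj F)) : p y ∈ CohB1.support F := by
  intro h1
  have h1' : Subsingleton (F.presheaf.stalk (p y)) := h1
  apply h
  have h2 := Fdesc.PullbackStalk.span_range_canAdd p F y
  have h3 : Set.range (Fdesc.PullbackStalk.canAdd p F y) ⊆ {0} := by
    rintro _ ⟨t, rfl⟩
    rw [Subsingleton.elim t 0, map_zero]
    rfl
  have h4 : (⊤ : Submodule (Y.presheaf.stalk y)
      (((Scheme.Modules.pullback p).obj F).presheaf.stalk y)) = ⊥ := by
    rw [← h2, eq_bot_iff, Submodule.span_le]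
    exact h3
  exact (Submodule.subsingleton_iff (Y.presheaf.stalk y)).mp (subsingleton_of_bot_eq_top h4.symm)

variable (A : Type u) [CommRing A] [IsNoetherianRing A] (Y : Scheme.{u}) [Y.Over (Spec (CommRingCat.of A))]
    [IsProper (Y ↘ Spec (CommRingCat.of A))] (d : ℕ)
    (hCM : ∀ y : Y, MoreMor.IsCMAt (Y ↘ Spec (CommRingCat.of A)) y) (hd : Cyc.HasRelDim (Y ↘ Spec (CommRingCat.of A)) d)
    (ω : Y.Modules) 
    (hfl : FlatMod.IsFlatOver (Y ↘ Spec (CommRingCat.of A)) ω)
    (hfib : ∀ t : Spec (CommRingCat.of A), RelCanon.IsDualizingSheafFib (Y ↘ Spec (CommRingCat.of A)) d ω t)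

include hCM hd hfl hfib

theorem relSkAt_and_support (y : Y) (k : ℕ) :
    RelCanon.RelSkAt (Y ↘ Spec (CommRingCat.of A)) k ω y ∧ y ∈ CohB1.support ω := by
  set f := Y ↘ Spec (CommRingCat.of A) with hf
  have hflat : Flat f := by
    rw [Flat.iff_flat_stalkMap]
    exact fun x => (hCM x).1
  have hfp : LocallyOfFinitePresentation f := by
    have : IsNoetherianRing (CommRingCat.of A) := ‹_›
    have : IsLocallyNoetherian Y := LocallyOfFiniteType.isLocallyNoetherian f
    infer_instance
  let t := f y
  have H := K970.BCHyp.isPullback_fibre f t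
  have hpr : IsProper (f.fiberToSpecResidueField t) :=
    MorphismProperty.of_isPullback (P := @IsProper) H inferInstance
  have hdt := K970.BCHyp.hasRelDim_of_isPullback H hd
  have hCMt : ∀ x, MoreMor.IsCMAt (f.fiberToSpecResidueField t) x := by
    intro x
    have h1 := S1342.result f (f.fiberToSpecResidueField t) (f.fiberι t) _ H
    have h2 : x ∈ f.fiberι t ⁻¹' {x | MoreMor.IsCMAt f x} := hCM _
    rw [← h1] at h2
    exact h2
  let : (f.fiber t).Over (Spec (CommRingCat.of ((Spec (CommRingCat.of A)).residueField t))) :=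
    ⟨f.fiberToSpecResidueField t⟩
  have hprt : IsProper ((f.fiber t) ↘ Spec (CommRingCat.of ((Spec (CommRingCat.of A)).residueField t))) := hpr
  obtain ⟨h1, h2⟩ := K969.FieldSch.skAt_and_mem_support ((Spec (CommRingCat.of A)).residueField t) (f.fiber t) d
    hdt hCMt ((Scheme.Modules.pullback (f.fiberι t)).obj ω) (hfib t) (f.asFiber y) k
  refine ⟨⟨hfl y, h1⟩, ?_⟩
  have h3 := mem_support_of_mem_support_pullback (f.fiberι t) ω _ h2
  rwa [Scheme.Hom.fiberι_asFiber] at h3

end K969.CM36
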