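import Groth.Agent.QGor.K969.FibDimSch
import Groth.Agent.Ega4C.FibreTower

/-!
# Affine charts of a flat scheme of finite type over a Noetherian ring: fibre dimension and `(S_k)` of the fibre rings
-/

set_option autoImplicit false
universe u

open CategoryTheory AlgebraicGeometry
open scoped TensorProduct

namespace K969.ChartFib

open Groth.Agent Groth.Agent.Ega4C Groth.Agent.Flat2D.FiberStalk K970.RelSk1 K970.RelSk2

section Alg

variable {A : Type u} [CommRing A] {Y : Scheme.{u}} (f : Y ⟶ Spec (CommRingCat.of A))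

/-- The sections over an affine open subset of a scheme over `Spec A`, as an `A`-algebra. -/
theorem exists_algebra [LocallyOfFiniteType f] [Flat f] [IsNoetherianRing A] (U : Y.Opens)
    (hU : IsAffineOpen U) :
    ∃ _ : Algebra A Γ(Y, U), hU.fromSpec ≫ f =
      Spec.map (CommRingCat.ofHom (algebraMap A Γ(Y, U))) ∧ Algebra.FiniteType A Γ(Y, U) ∧
      Module.Flat A Γ(Y, U) ∧ IsNoetherianRing Γ(Y, U) := by
  let φ : CommRingCat.of A ⟶ Γ(Y, U) := Spec.preimage (hU.fromSpec ≫ f)
  have hφ : Spec.map φ = hU.fromSpec ≫ f := Spec.map_preimage _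
  let alg : Algebra A Γ(Y, U) := φ.hom.toAlgebra
  have hft : Algebra.FiniteType A Γ(Y, U) := by
    have h1 : LocallyOfFiniteType (Spec.map φ) := by rw [hφ]; infer_instance
    exact (HasRingHomProperty.Spec_iff (P := @LocallyOfFiniteType)).mp h1
  have hfl : Module.Flat A Γ(Y, U) := by
    have h1 : Flat (Spec.map φ) := by rw [hφ]; infer_instance
    exact (HasRingHomProperty.Spec_iff (P := @Flat)).mp h1
  exact ⟨alg, hφ.symm, hft, hfl, Algebra.FiniteType.isNoetherianRing A Γ(Y, U)⟩

end Alg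

section Chart

variable {A C : Type u} [CommRing A] [CommRing C] [Algebra A C] {X : Scheme.{u}}
  (f : X ⟶ Spec (CommRingCat.of A)) (j : Spec (CommRingCat.of C) ⟶ X) [IsOpenImmersion j]
  (hj : j ≫ f = Spec.map (CommRingCat.ofHom (algebraMap A C)))

include hj

/-- The local ring of the fibre on a chart. -/
theorem nonempty_equiv (q : PrimeSpectrum C) (x : Spec (CommRingCat.of C)) (hx : x = q) :
    Nonempty (EGA4.FibLocRing A C q.asIdeal ≃+*
      (f.fiber (f (j x))).presheaf.stalk (f.asFiber (j x))) := by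
  obtain ⟨σ, e, hσ, he⟩ := exists_stalk_equiv (C := C) C q x hx
  obtain ⟨e₁⟩ := nonempty_asFiber_stalkEquiv f (j x)
  have h1 := fibreIdeal_map_stalkMap f j x
  let e₂ : (X.presheaf.stalk (j x) ⧸ fibreIdeal f (j x)) ≃+*
      ((Spec (CommRingCat.of C)).presheaf.stalk x ⧸ fibreIdeal (j ≫ f) x) :=
    Ideal.quotientEquiv _ _ (asIso (j.stalkMap x)).commRingCatIsoToRingEquiv h1.symm
  have h2 : fibreIdeal (j ≫ f) x = ((q.asIdeal.comap (algebraMap A C)).map
      (algebraMap A (Localization.AtPrime q.asIdeal))).map (σ : _ →+* _) := by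
    rw [fibreIdeal_congr hj, fibreIdeal_chart x q hx, Ideal.map_map]
    congr 1
    ext a
    change _ = σ (algebraMap A (Localization.AtPrime q.asIdeal) a)
    rw [IsScalarTower.algebraMap_apply A C (Localization.AtPrime q.asIdeal), hσ]
    rfl
  let e₃ : EGA4.FibLocRing A C q.asIdeal ≃+*
      ((Spec (CommRingCat.of C)).presheaf.stalk x ⧸ fibreIdeal (j ≫ f) x) :=
    Ideal.quotientEquiv _ _ σ h2
  exact ⟨e₃.trans (e₂.symm.trans e₁)⟩

theorem hasSk_fibLocRing_iff (k : ℕ) (q : PrimeSpectrum C) (x : Spec (CommRingCat.of C)) (hx : x = q) :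
    LocCoh.HasSk k (EGA4.FibLocRing A C q.asIdeal) (EGA4.FibLocRing A C q.asIdeal) ↔
      RelCanon.SkAt k (Coh.structureModule (f.fiber (f (j x)))) (f.asFiber (j x)) := by
  obtain ⟨e⟩ := nonempty_equiv f j hj q x hx
  rw [K969.FibDimSch.skAt_structureModule_iff]
  exact ⟨K969.FibDimSch.hasSk_of_ringEquiv k e, K969.FibDimSch.hasSk_of_ringEquiv k e.symm⟩

/-- If the fibres are `(S_k)` at the points of the chart then the fibre rings are `(S_k)`. -/
theorem hasSk_fiber (k : ℕ) (h : ∀ x : Spec (CommRingCat.of C),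
      RelCanon.SkAt k (Coh.structureModule (f.fiber (f (j x)))) (f.asFiber (j x)))
    (p : PrimeSpectrum A) : LocCoh.HasSk k (p.asIdeal.Fiber C) (p.asIdeal.Fiber C) := by
  rw [Ega4B.SkLocal.hasSk_iff_forall_hasSkAt]
  intro Q hQ
  rw [Ega4B.SkLocal.hasSkAt_self_iff]
  let q : PrimeSpectrum C := ⟨FibreTower.ctr p.asIdeal Q, inferInstance⟩
  exact K969.FibDimSch.hasSk_of_ringEquiv k (FibreTower.locFibreEquiv p.asIdeal Q).symm
    ((hasSk_fibLocRing_iff f j hj k q q rfl).mpr (h q))

theorem fibreDimAt_chart [LocallyOfFiniteType f] (d : ℕ) (hd : Cyc.HasRelDim f d) (q : PrimeSpectrum C) :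
    FlatMor.fibreDimAt (Spec.map (CommRingCat.ofHom (algebraMap A C))) q = d := by
  rw [← hj, K582.FibRelDim.fibreDimAt_comp_isOpenImmersion]
  exact (K582.FibRelDim.hasRelDim_iff f d).mp hd _

end Chart

end K969.ChartFib
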