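import Groth.Agent.Ega43.FibAff

/-!
# Dimensions of the associated cycles of the fibres through a point (polynomial ring)

`isOpen_ass_dim_le`: for `M` finitely presented over `P = A[x_1, …, x_N]` and flat over `A`, the set of the primes `Q`
such that all associated primes of the fibre of `M` contained in `Q` have height at most `r` in the fibre of `P`
is open.
-/

set_option autoImplicit false
universe u

open TensorProduct EGA4 CategoryTheory

namespace K969.FibAssOpen

open Groth.Agent Groth.Agent.Ega43 FibChev FibSpec FibPd FibCM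

attribute [local instance] Groth.Agent.Ega43.FibCM.isLocalRing_fib

section Poly

variable (A : Type u) [CommRing A] (N : ℕ) (M : Type u) [AddCommGroup M]
  [Module (MvPolynomial (Fin N) A) M]

/-- `Q` is associated to the fibre of `M` through `Q`. -/
def AssAt (Q : PrimeSpectrum (MvPolynomial (Fin N) A)) : Prop :=
  Q ∈ Module.support (MvPolynomial (Fin N) A) M ∧
    LocCoh.depth (FibLocRing A (MvPolynomial (Fin N) A) Q.asIdeal)
      (FibLocMod A (MvPolynomial (Fin N) A) Q.asIdeal M) = 0

/-- `pd ≥ m` for the fibre module. -/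
def PdGE (m : ℕ) (Q : PrimeSpectrum (MvPolynomial (Fin N) A)) : Prop :=
  m = 0 ∨ ∃ n, m = n + 1 ∧ ¬ HasProjectiveDimensionLE (ModuleCat.of
        (FibLocRing A (MvPolynomial (Fin N) A) Q.asIdeal)
        (FibLocMod A (MvPolynomial (Fin N) A) Q.asIdeal M)) n

theorem isClosed_pdGE [Module.Finite (MvPolynomial (Fin N) A) M]
    [Module A M] [IsScalarTower A (MvPolynomial (Fin N) A) M]
    [Module.FinitePresentation (MvPolynomial (Fin N) A) M] [Module.Flat A M]
    (hK : KerFP A (MvPolynomial (Fin N) A)) (m : ℕ) :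
    IsClosed {Q : PrimeSpectrum (MvPolynomial (Fin N) A) | PdGE A N M m Q} := by
  rcases m with _ | n
  · simp [PdGE]
  · have : {Q : PrimeSpectrum (MvPolynomial (Fin N) A) | PdGE A N M (n + 1) Q} = {Q |
        HasProjectiveDimensionLE (ModuleCat.of
        (FibLocRing A (MvPolynomial (Fin N) A) Q.asIdeal)
        (FibLocMod A (MvPolynomial (Fin N) A) Q.asIdeal M)) n}ᶜ := by
      ext Q
      simp only [PdGE, Set.mem_ofPred_eq, Set.mem_compl_iff]
      constructor
      · rintro (h | ⟨n', hn', h⟩)
        · omega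
        · obtain rfl : n = n' := by omega
          exact h
      · intro h
        exact Or.inr ⟨n, rfl, h⟩
    rw [this]
    exact (isOpen_pd A _ hK n M).isClosed_compl

theorem isOpen_ass_dim_le [Module.Finite (MvPolynomial (Fin N) A) M]
    [Module A M] [IsScalarTower A (MvPolynomial (Fin N) A) M]
    [Module.FinitePresentation (MvPolynomial (Fin N) A) M] [Module.Flat A M]
    (hK : KerFP A (MvPolynomial (Fin N) A)) (r : ℕ) :
    IsOpen {Q : PrimeSpectrum (MvPolynomial (Fin N) A) | ∀ Q' ≤ Q,
      PrimeSpectrum.comap (algebraMap A (MvPolynomial (Fin N) A)) Q' =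
        PrimeSpectrum.comap (algebraMap A (MvPolynomial (Fin N) A)) Q → AssAt A N M Q' →
        ringKrullDim (FibLocRing A (MvPolynomial (Fin N) A) Q'.asIdeal) ≤ r} := by
  let V : ℕ → Set (PrimeSpectrum (MvPolynomial (Fin N) A)) := fun m ↦
    Module.support (MvPolynomial (Fin N) A) M ∩ {Q | PdGE A N M m Q}
  have hV : ∀ m, IsClosed (V m) := fun m ↦
    Module.isClosed_support.inter (isClosed_pdGE A N M hK m)
  rw [← isClosed_compl_iff]
  have h : {Q : PrimeSpectrum (MvPolynomial (Fin N) A) | ∀ Q' ≤ Q,
      PrimeSpectrum.comap (algebraMap A (MvPolynomial (Fin N) A)) Q' =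
        PrimeSpectrum.comap (algebraMap A (MvPolynomial (Fin N) A)) Q → AssAt A N M Q' →
        ringKrullDim (FibLocRing A (MvPolynomial (Fin N) A) Q'.asIdeal) ≤ r}ᶜ =
      ⋃ m ∈ Set.Iic N, {Q | r < m ∧ Q ∈ E (V m) m} := by
    ext Q
    simp only [Set.mem_compl_iff, Set.mem_ofPred_eq, Set.mem_iUnion, Set.mem_Iic, exists_prop]
    constructor
    · intro h
      push Not at h
      obtain ⟨Q', hle, hc, ⟨hQ's, hQ'd⟩, hQ'⟩ := h
      have hreg := isRegularLocalRing_fib (A := A) (N := N) Q'.asIdeal
      have hnt := nontrivial_fib A N M Q' hQ's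
      obtain ⟨e, d, h, hpd, hdep, hdim, hsum⟩ := exists_data
        (B := FibLocRing A (MvPolynomial (Fin N) A) Q'.asIdeal)
        (FibLocMod A (MvPolynomial (Fin N) A) Q'.asIdeal M)
      have hN : h ≤ N := by
        have := dim_fib_le A N Q'
        rw [hdim] at this
        exact_mod_cast this
      have hd0 : d = 0 := by
        rw [hdep] at hQ'd
        exact_mod_cast hQ'd
      have hr : r < h := by
        rw [hdim] at hQ'
        exact_mod_cast hQ'
      refine ⟨h, hN, hr, Q', ⟨hQ's, ?_⟩, hle, hc, hdim.le⟩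
      rcases h with _ | n
      · exact Or.inl rfl
      · exact Or.inr ⟨n, rfl, by rw [hpd]; omega⟩
    · rintro ⟨m, hmN, hrm, Q', ⟨hQ's, hQ'p⟩, hle, hc, hdm⟩ hall
      have hreg := isRegularLocalRing_fib (A := A) (N := N) Q'.asIdeal
      have hnt := nontrivial_fib A N M Q' hQ's
      obtain ⟨e, d, h, hpd, hdep, hdim, hsum⟩ := exists_data
        (B := FibLocRing A (MvPolynomial (Fin N) A) Q'.asIdeal)
        (FibLocMod A (MvPolynomial (Fin N) A) Q'.asIdeal M)
      have hhm : h ≤ m := by
        rw [hdim] at hdm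
        exact_mod_cast hdm
      have hme : m ≤ e := by
        rcases hQ'p with rfl | ⟨n, rfl, hn⟩
        · omega
        · rw [hpd] at hn
          omega
      have hd0 : d = 0 := by omega
      have := hall Q' hle hc ⟨hQ's, by rw [hdep, hd0]; rfl⟩
      rw [hdim] at this
      have h2 : h ≤ r := by exact_mod_cast this
      omega
  rw [h]
  refine Set.Finite.isClosed_biUnion (Set.finite_Iic N) fun m _ ↦ ?_
  by_cases he : r < m
  · simp only [he, true_and]
    exact isClosed_E _ (hV m) m
  · simp only [he, false_and]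
    exact isClosed_empty

end Poly

end K969.FibAssOpen
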