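import Groth.Agent.QGor.K969.FibAssOpen
import Groth.Agent.Synt.K562.FieldDim
import Groth.Agent.LoccohA.EquidimS2
import Groth.Agent.CalgA.UnivCat
import Groth.Agent.Sga3C.CMPoint
import Groth.Agent.S0603

/-!
# The fibre dimension of a flat algebra does not drop near a point where the fibre is `(S_2)`

`exists_open_le`: `A → B` flat of finite presentation, `q` a prime of `B` at which the fibre satisfies `(S_2)`, with
local fibre dimension `e`. Then the local fibre dimension is `≥ e` on a neighbourhood of `q`.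
-/

set_option autoImplicit false
universe u

open TensorProduct EGA4 CategoryTheory

namespace K969.FibDimOpen

open Groth.Agent Groth.Agent.Ega43 FibChev FibSpec FibPd FibCM FibTransfer FibAff K969.FibAssOpen
open Groth.Agent.Ega4C.FibreTower

attribute [local instance] Groth.Agent.Ega43.FibCM.isLocalRing_fib

/-- Equidimensionality of `(S_2)` local rings of algebras of finite type over a field. -/
theorem ringKrullDim_quotient_of_minimal (k : Type u) [Field k] (T : Type u) [CommRing T] [Algebra k T]
    [Algebra.FiniteType k T] (t t' : Ideal T) [ht : t.IsPrime] [ht' : t'.IsPrime] (htt : t' ≤ t)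
    (hmin : t'.height = 0) (hS : LocCoh.HasSk 2 (Localization.AtPrime t) (Localization.AtPrime t)) :
    ringKrullDim (T ⧸ t') = t.height + ringKrullDim (T ⧸ t) := by
  have hN : IsNoetherianRing T := Algebra.FiniteType.isNoetherianRing k T
  have hCMk := Sga3C.CMPoint.isCohenMacaulayRing_field k
  have hcat : CAlg.IsCatenary (Localization.AtPrime t) := by
    have : Algebra.EssFiniteType T (Localization.AtPrime t) :=
      Algebra.EssFiniteType.of_isLocalization _ t.primeCompl
    have : Algebra.EssFiniteType k (Localization.AtPrime t) :=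
      Algebra.EssFiniteType.comp k T (Localization.AtPrime t)
    exact CalgA.UnivCat.isCatenary_of_essFiniteType (R := k) (S0603.result k)
  have hdisj : Disjoint (t.primeCompl : Set T) (t' : Set T) := by
    rw [Set.disjoint_left]
    intro x hx hx'
    exact hx (htt hx')
  have hp : (t'.map (algebraMap T (Localization.AtPrime t))).IsPrime :=
    IsLocalization.isPrime_of_isPrime_disjoint t.primeCompl _ t' ht' hdisj
  have hcm : (t'.map (algebraMap T (Localization.AtPrime t))).comap
      (algebraMap T (Localization.AtPrime t)) = t' :=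
    IsLocalization.under_map_of_isPrime_disjoint t.primeCompl (Localization.AtPrime t) ht' hdisj
  have hpmin : t'.map (algebraMap T (Localization.AtPrime t)) ∈ minimalPrimes (Localization.AtPrime t) := by
    rw [← Ideal.height_eq_zero_iff, ← IsLocalization.height_under t.primeCompl]
    have : Ideal.under T (t'.map (algebraMap T (Localization.AtPrime t))) = t' := hcm
    rw [this, hmin]
  have h1 := LoccohA.EquidimS2.ringKrullDim_quotient_minimalPrime_of_catenary_S2
    (Localization.AtPrime t) hcat hS _ hpmin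
  rw [K562.FieldDim.ringKrullDim_atPrime_quotient t' t htt,
    IsLocalization.AtPrime.ringKrullDim_eq_height t (Localization.AtPrime t)] at h1
  have hM : (t.map (Ideal.Quotient.mk t')).IsPrime := VarietyB.DimRing.isPrime_map_quotient htt
  have h2 := Ega4B.DimFT2.height_add_dim k (T ⧸ t') (t.map (Ideal.Quotient.mk t'))
  have h3 := FibChev.ringKrullDim_quotient_comap (Ideal.Quotient.mk t') Ideal.Quotient.mk_surjective
    (t.map (Ideal.Quotient.mk t'))
  rw [VarietyB.DimRing.comap_map_quotient htt] at h3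
  rw [← h3, h1] at h2
  exact h2.symm

section Main

variable {A B : Type u} [CommRing A] [CommRing B] [Algebra A B]

theorem depth_fib_eq {P : Type u} [CommRing P] [Algebra A P] [Algebra P B] [IsScalarTower A P B]
    (hs : Function.Surjective (algebraMap P B)) (q : Ideal B) [q.IsPrime] :
    LocCoh.depth (FibLocRing A P (q.comap (algebraMap P B)))
      (FibLocMod A P (q.comap (algebraMap P B)) B) =
    LocCoh.depth (FibLocRing A B q) (FibLocRing A B q) := by
  obtain ⟨σ, e, hσ, he⟩ := exists_fib_equiv (A := A) hs B q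
  rw [← Ega4B.DepthTransfer.depth_eq σ e he hσ, Ega4B.DepthBasic.depth_congr (fibSelf (A := A) q)]

theorem comap_comap_eq {P : Type u} [CommRing P] [Algebra A P] [Algebra P B] [IsScalarTower A P B]
    (q' : PrimeSpectrum B) : PrimeSpectrum.comap (algebraMap A P)
      (PrimeSpectrum.comap (algebraMap P B) q') = PrimeSpectrum.comap (algebraMap A B) q' := by
  rw [← PrimeSpectrum.comap_comp_apply, ← IsScalarTower.algebraMap_eq]

theorem height_eq_zero_of_ass (k : ℕ) (hk : 1 ≤ k) (p : Ideal A) [p.IsPrime] (t : Ideal (p.Fiber B))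
    [t.IsPrime] (hm : Ega4C.SkFlat.MinLe k (FibLocRing A B (ctr p t)))
    (hd : LocCoh.depth (FibLocRing A B (ctr p t)) (FibLocRing A B (ctr p t)) = 0) : t.height = 0 := by
  unfold Ega4C.SkFlat.MinLe at hm
  rw [hd, ringKrullDim_fibLocRing] at hm
  have h1 : min (k : ℕ∞) t.height ≤ 0 := by exact_mod_cast hm
  rw [nonpos_iff_eq_zero] at h1
  rcases min_eq_iff.mp h1 with h | h
  · have : k = 0 := by exact_mod_cast h.1
    omega
  · exact h.1

theorem exists_open_le [IsNoetherianRing B] [Algebra.FinitePresentation A B] [Module.Flat A B]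
    (q : PrimeSpectrum B)
    (hS : LocCoh.HasSk 2 (FibLocRing A B q.asIdeal) (FibLocRing A B q.asIdeal)) (e : ℕ)
    (he : FlatMor.localDim (PrimeSpectrum.comap (algebraMap A B) ⁻¹'
      {PrimeSpectrum.comap (algebraMap A B) q}) ⟨q, rfl⟩ = e) :
    ∃ W : Set (PrimeSpectrum B), IsOpen W ∧ q ∈ W ∧ ∀ q₁ ∈ W,
      (e : WithBot ℕ∞) ≤ FlatMor.localDim (PrimeSpectrum.comap (algebraMap A B) ⁻¹'
        {PrimeSpectrum.comap (algebraMap A B) q₁}) ⟨q₁, rfl⟩ := by
  obtain ⟨N, φ, hφ, hker⟩ := exists_poly (A := A) (B := B)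
  let : Algebra (MvPolynomial (Fin N) A) B := φ.toRingHom.toAlgebra
  have : IsScalarTower A (MvPolynomial (Fin N) A) B :=
    IsScalarTower.of_algebraMap_eq' φ.comp_algebraMap.symm
  have : Module.FinitePresentation (MvPolynomial (Fin N) A) B :=
    Module.finitePresentation_of_surjective (Algebra.linearMap (MvPolynomial (Fin N) A) B) hφ hker
  have hφ' : Function.Surjective (algebraMap (MvPolynomial (Fin N) A) B) := hφ
  set p : PrimeSpectrum A := PrimeSpectrum.comap (algebraMap A B) q with hp
  -- the prime of the fibre ring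
  obtain ⟨t₀, ht₀, ht₀q⟩ := exists_prime_fibre p.asIdeal q.asIdeal rfl
  have hdim : (t₀.height : WithBot ℕ∞) + ringKrullDim (p.asIdeal.Fiber B ⧸ t₀) = e := by
    rw [← he, ← CalgC.LocalDim.localDim_eq_height_add p.asIdeal.ResidueField t₀,
      VarietyB.DimTop.localDim_eq_of_homeomorph (PrimeSpectrum.preimageHomeomorphFiber A B p)]
    congr 1
    have h1 : (PrimeSpectrum.preimageOrderIsoFiber A B p) ⟨q, rfl⟩ = ⟨t₀, ht₀⟩ := by
      rw [← OrderIso.eq_symm_apply]
      apply Subtype.ext
      apply PrimeSpectrum.ext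
      exact ht₀q.symm
    exact h1.symm
  have hS' : LocCoh.HasSk 2 (Localization.AtPrime t₀) (Localization.AtPrime t₀) := by
    have : ∀ (q₁ q₂ : Ideal B) [q₁.IsPrime] [q₂.IsPrime] (_ : q₁ = q₂),
        LocCoh.HasSk 2 (FibLocRing A B q₁) (FibLocRing A B q₁) →
        LocCoh.HasSk 2 (FibLocRing A B q₂) (FibLocRing A B q₂) := by
      intro q₁ q₂ _ _ h
      subst h
      exact id
    exact Ega4B.SkLocal.hasSk_of_ringEquiv 2 (locFibreEquiv p.asIdeal t₀).symm
      (this _ _ ht₀q.symm hS)
  have hkey : ∀ (t : Ideal (p.asIdeal.Fiber B)) [t.IsPrime], t ≤ t₀ → t.height = 0 →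
      ringKrullDim (p.asIdeal.Fiber B ⧸ t) = e := by
    intro t _ htt h0
    rw [ringKrullDim_quotient_of_minimal p.asIdeal.ResidueField (p.asIdeal.Fiber B) t₀ t htt h0 hS', hdim]
  have heN : e ≤ N := by
    obtain ⟨t, ht, htt⟩ := Ideal.exists_minimalPrimes_le (I := (⊥ : Ideal (p.asIdeal.Fiber B)))
      (J := t₀) bot_le
    have htp : t.IsPrime := ht.1.1
    have h1 := hkey t htt (Ideal.height_eq_zero_iff.mpr ht)
    have h2 : ringKrullDim (p.asIdeal.Fiber B ⧸ t) ≤
        ringKrullDim (p.asIdeal.Fiber (MvPolynomial (Fin N) A)) := by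
      refine (ringKrullDim_quotient_le t).trans ?_
      exact ringKrullDim_le_of_surjective (fiberMap p.asIdeal φ) (fiberMap_surjective p.asIdeal φ hφ)
    rw [ringKrullDim_fiber, h1] at h2
    exact_mod_cast h2
  have hopen := isOpen_ass_dim_le A N B (FlatKer.kerFP A (MvPolynomial (Fin N) A)) (N - e)
  refine ⟨_, hopen.preimage (PrimeSpectrum.continuous_comap
    (algebraMap (MvPolynomial (Fin N) A) B)), ?_, ?_⟩
  · rw [Set.mem_preimage, Set.mem_ofPred_eq]
    rintro Q' hle hc ⟨hQ's, hQ'd⟩
    have hrange : Q' ∈ Set.range (PrimeSpectrum.comap (algebraMap (MvPolynomial (Fin N) A) B)) := by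
      rw [range_comap_of_surjective _ (algebraMap (MvPolynomial (Fin N) A) B) hφ']
      rwa [Module.support_of_algebra] at hQ's
    obtain ⟨q', rfl⟩ := hrange
    rw [comap_comap_eq, comap_comap_eq] at hc
    have hle' : q' ≤ q := (Ideal.comap_le_comap_iff_of_surjective _ hφ' _ _).mp hle
    have hdep : LocCoh.depth (FibLocRing A B q'.asIdeal) (FibLocRing A B q'.asIdeal) = 0 := by
      rw [← depth_fib_eq (P := MvPolynomial (Fin N) A) hφ']
      exact hQ'd
    have hm := (hasSk_iff 2 q).mp hS q' hle' hc
    obtain ⟨t, ht, htq⟩ := exists_prime_fibre p.asIdeal q'.asIdeal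
      (congrArg PrimeSpectrum.asIdeal hc)
    have htt : t ≤ t₀ := by
      rw [← ctr_le_iff p.asIdeal, htq, ht₀q]
      exact hle'
    have h0 : t.height = 0 := by
      refine height_eq_zero_of_ass 2 (by norm_num) p.asIdeal t ((minLe_congr 2 htq).mpr hm) ?_
      rw [← hdep]
      have : ∀ (q₁ q₂ : Ideal B) [q₁.IsPrime] [q₂.IsPrime] (_ : q₁ = q₂),
        LocCoh.depth (FibLocRing A B q₁) (FibLocRing A B q₁) =
        LocCoh.depth (FibLocRing A B q₂) (FibLocRing A B q₂) := by
        intro q₁ q₂ _ _ h
        subst h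
        rfl
      exact this _ _ htq
    have h1 := (dim_le_iff φ hφ p.asIdeal t (N - e)).mpr (by
      rw [hkey t htt h0]
      exact_mod_cast (by omega : N - (N - e) ≤ e))
    have h2 := ctr_fiberMap p.asIdeal φ t
    rw [htq] at h2
    exact (dim_fibLocRing_congr h2).symm.le.trans h1
  · intro q₁ hq₁
    rw [Set.mem_preimage, Set.mem_ofPred_eq] at hq₁
    have hNe : N - (N - e) = e := by omega
    have hE := mem_E_iff φ hφ (N - e) q₁
    rw [hNe] at hE
    refine hE.mp ?_
    -- a minimal prime of the fibre below `q₁`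
    set p₁ : PrimeSpectrum A := PrimeSpectrum.comap (algebraMap A B) q₁ with hp₁
    obtain ⟨t₁, ht₁, ht₁q⟩ := exists_prime_fibre p₁.asIdeal q₁.asIdeal rfl
    obtain ⟨t, ht, htt⟩ := Ideal.exists_minimalPrimes_le (I := (⊥ : Ideal (p₁.asIdeal.Fiber B)))
      (J := t₁) bot_le
    have htp : t.IsPrime := ht.1.1
    let q' : PrimeSpectrum B := ⟨ctr p₁.asIdeal t, inferInstance⟩
    have hq'c : PrimeSpectrum.comap (algebraMap A B) q' = p₁ := by
      apply PrimeSpectrum.ext
      exact ctr_comap p₁.asIdeal t
    have hq'le : q' ≤ q₁ := by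
      rw [← PrimeSpectrum.asIdeal_le_asIdeal]
      change ctr p₁.asIdeal t ≤ q₁.asIdeal
      rw [← ht₁q, ctr_le_iff]
      exact htt
    have hle : PrimeSpectrum.comap (algebraMap (MvPolynomial (Fin N) A) B) q' ≤
        PrimeSpectrum.comap (algebraMap (MvPolynomial (Fin N) A) B) q₁ := Ideal.comap_mono hq'le
    have hc : PrimeSpectrum.comap (algebraMap A (MvPolynomial (Fin N) A))
        (PrimeSpectrum.comap (algebraMap (MvPolynomial (Fin N) A) B) q') =
        PrimeSpectrum.comap (algebraMap A (MvPolynomial (Fin N) A))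
        (PrimeSpectrum.comap (algebraMap (MvPolynomial (Fin N) A) B) q₁) := by
      rw [comap_comap_eq, comap_comap_eq, hq'c]
    have hsupp : PrimeSpectrum.comap (algebraMap (MvPolynomial (Fin N) A) B) q' ∈
        Module.support (MvPolynomial (Fin N) A) B := by
      rw [Module.support_of_algebra, ← range_comap_of_surjective _
        (algebraMap (MvPolynomial (Fin N) A) B) hφ']
      exact ⟨q', rfl⟩
    have hNoeth : IsNoetherianRing (FibLocRing A B q'.asIdeal) := by
      unfold FibLocRing
      infer_instance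
    have hdep : LocCoh.depth (FibLocRing A B q'.asIdeal) (FibLocRing A B q'.asIdeal) = 0 := by
      have h1 := Ega4C.FlatLocal.depth_le_ringKrullDim (R := FibLocRing A B q'.asIdeal)
      have h2 : ringKrullDim (FibLocRing A B q'.asIdeal) = 0 := by
        have := ringKrullDim_fibLocRing p₁.asIdeal t
        rw [Ideal.height_eq_zero_iff.mpr ht] at this
        exact this
      rw [h2] at h1
      have h3 : LocCoh.depth (FibLocRing A B q'.asIdeal) (FibLocRing A B q'.asIdeal) ≤ 0 := by
        exact_mod_cast h1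
      exact nonpos_iff_eq_zero.mp h3
    have h5 := hq₁ _ hle hc ⟨hsupp, (depth_fib_eq (P := MvPolynomial (Fin N) A) hφ' q'.asIdeal).trans hdep⟩
    exact ⟨_, ⟨q', rfl⟩, hle, hc, h5⟩

end Main

end K969.FibDimOpen
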