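import Groth.Agent.QGor.K969.RelSupp
import Groth.Agent.Dual.H318.CMRing
import Groth.Agent.S1782
import Groth.Agent.LoccohB.FieldDual

/-!
# The dualizing module of a Cohen–Macaulay algebra of finite type over a field is Cohen–Macaulay

`hasSk_HD`: `k → C` of finite type, Cohen–Macaulay of pure dimension `d`, `ω = φ^!(k)`: `H^{-d}(ω)` is `(S_m)` for
every `m`, and its support is `Spec C`.
-/

set_option autoImplicit false
universe u

open CategoryTheory AlgebraicGeometry Limits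

attribute [local instance] HasDerivedCategory.standard

namespace K969.FieldCM

open Groth.Agent Groth.Agent.LoccohB Groth.Agent.Dual.H319 Groth.Agent.CalgB.DzData
open Groth.Agent.LoccohA Groth.Agent.LoccohA.DExt Groth.Agent.LoccohA.DzTrunc
open K967.DeltaSk DerivedCategory

variable (k : Type u) [Field k] {C : Type u} [CommRing C] [IsNoetherianRing C] [Algebra k C] (n : ℕ)
  (ψ : MvPolynomial (Fin n) k →ₐ[k] C) (hψ : Function.Surjective ψ)
  [DRing.HasLBaseChange (algebraMap k (MvPolynomial (Fin n) k))]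
  (Rψ : Dual.D (MvPolynomial (Fin n) k) ⥤ Dual.D C) (adj : DRing.restrictD ψ.toRingHom ⊣ Rψ)
  (d : ℕ) (hd : ∀ q : PrimeSpectrum C,
    FlatMor.fibreDimAt (Spec.map (CommRingCat.ofHom (algebraMap k C))) q = d)

include hψ adj hd

/-- The dimension function of `φ^!(k)`. -/
theorem exists_delta : ∃ δ : PrimeSpectrum C → ℤ, Dual.IsDualizing C (Dual2.shriekVia n Rψ (Dual.inD k k)) ∧
    IsDelta (Dual2.shriekVia n Rψ (Dual.inD k k)) δ ∧
    (∀ Q : PrimeSpectrum C, Q.asIdeal ∈ minimalPrimes C → δ Q = d) ∧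
    ∀ Q : PrimeSpectrum C, 0 ≤ δ Q ∧ δ Q ≤ d ∧
      ringKrullDim (C ⧸ Q.asIdeal) = ((δ Q).toNat : WithBot ℕ∞) := by
  have hft : Algebra.FiniteType k C := Algebra.FiniteType.of_surjective ψ hψ
  have hω := S1782.result k C n ψ hψ Rψ adj (Dual.inD k k) (FieldDual.isDualizing_field k)
  obtain ⟨δ, hδ⟩ := exists_isDelta hω
  obtain ⟨h1, h2⟩ := RelSupp.delta_eq k hδ
    (fun Q hQ e he i => GenPt.mem_support_iff k C n ψ hψ Rψ adj Q hQ e he i) d
    (fun Q => by rw [← FibDim.fibreDimAt_field (k := k), hd])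
  exact ⟨δ, hω, hδ, h1, h2⟩

/-- The dualizing module of a Cohen–Macaulay algebra is Cohen–Macaulay. -/
theorem hasSk_HD
    (hCM : ∀ q : PrimeSpectrum C, LocCoh.IsCohenMacaulayLocalRing (EGA4.FibLocRing k C q.asIdeal))
    (m : ℕ) :
    LocCoh.HasSk m C (Dual.HD C (Dual2.shriekVia n Rψ (Dual.inD k k)) (-(d : ℤ))) := by
  obtain ⟨δ, hω, hδ, hmin, hdim⟩ := exists_delta k n ψ hψ Rψ adj d hd
  obtain ⟨hvan, hfin, -⟩ := Dual.H318.CMRing.ring_main n ψ hψ Rψ adj d hCM hd
  set ω := Dual2.shriekVia n Rψ (Dual.inD k k) with hωdef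
  -- the support
  have hsupp : ∀ q : PrimeSpectrum C, q ∈ Module.support C (Dual.HD C ω (-(d : ℤ))) := by
    intro q
    obtain ⟨q₀, hq₀, hle⟩ := K967.Ordinary.exists_minimal_le' q
    have h1 := K967.Ordinary.mem_support_of_minimal hδ q₀ hq₀
    rw [hmin q₀ hq₀] at h1
    exact Module.mem_support_mono hle h1
  have hc : ∀ q : PrimeSpectrum C,
      q.asIdeal ∈ (Module.annihilator C (Dual.HD C ω (-(d : ℤ)))).minimalPrimes → δ q = d := by
    intro q hq
    refine hmin q ⟨⟨q.2, bot_le⟩, fun J hJ hJq => hq.2 ⟨hJ.1, ?_⟩ hJq⟩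
    exact Module.mem_support_iff_of_finite.mp (hsupp ⟨J, hJ.1⟩)
  rw [hasSk_iff hδ hc m]
  intro i hi p hp
  exfalso
  -- `ω` is `E[d]`
  have hGE : ω.IsGE (-(d : ℤ)) := by
    rw [isGE_iff]
    intro j hj
    exact @ModuleCat.isZero_of_subsingleton _ _ _ (hvan j (by omega))
  have hLE : ω.IsLE (-(d : ℤ)) := by
    rw [isLE_iff]
    intro j hj
    exact @ModuleCat.isZero_of_subsingleton _ _ _ (hvan j (by omega))
  obtain ⟨e⟩ := nonempty_iso_single ω (-(d : ℤ))
  set M := ModuleCat.of C (Dual.HD C ω (-(d : ℤ))) with hM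
  have h2 : Subsingleton (ω ⟶ ω⟦i + d⟧) := hω.ext_self_subsingleton (i + d) (by omega)
  have h3 : Subsingleton ((singleFunctor (ModuleCat.{u} C) (-(d : ℤ))).obj M ⟶ ω⟦i + (d : ℤ)⟧) :=
    (Iso.homCongr e (Iso.refl _)).symm.subsingleton_congr.mpr h2
  have h4 := (singleShiftEquiv C M ω (i + d) (-(d : ℤ)) i (by lia)).toEquiv.symm.subsingleton_congr.mpr h3
  have h5 : Subsingleton (E ω i (Dual.HD C ω (-(d : ℤ)))) := h4
  rw [Module.support_eq_empty] at hp
  exact hp

end K969.FieldCM
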