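import Groth.Agent.QGor.K968.Compare1
import Groth.Agent.Dual.H349.Bridge
import Groth.Agent.Dual.H318.CMShriek
import Groth.Agent.FibDim.K582.RelDim
import Groth.Agent.S10831

/-!
# The relative dualizing sheaf on affine charts

`nonempty_restrict_iso`: for `Y` proper over a Noetherian ring `A` with fibres of dimension `≤ d`, `ω` a `d`-dualizing sheaf,
`j : Spec B ⟶ Y` an open immersion over `A` and `ψ : A[x_1, …, x_n] → B` surjective, `ω|_{Spec B}` is the module
`H^{-d}(φ^! A)^~`.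
-/

set_option autoImplicit false
universe u

open CategoryTheory CategoryTheory.Limits AlgebraicGeometry TopologicalSpace

attribute [local instance] HasDerivedCategory.standard

namespace K969.LocChart

open Groth.Agent Groth.Agent.LoccohB Groth.Agent.Ega1.ADualUniv

section Adj

variable (A : Type u) [CommRing A] [IsNoetherianRing A] {Y : Scheme.{u}}
  (f : Y ⟶ Spec (CommRingCat.of A)) [IsProper f]

/-- The right adjoint of `Rf_*`. -/
theorem exists_adj :
    ∃ (_ : DCoh.HasRpush f) (h : DCoh.RpushPreservesQCoh f)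
      (a : DCoh.DQCoh (Spec (CommRingCat.of A)) ⥤ DCoh.DQCoh Y), Nonempty (DCoh.RpushQ f h ⊣ a) := by
  have hR : IsNoetherianRing (CommRingCat.of A) := ‹_›
  have hlN : IsLocallyNoetherian Y := LocallyOfFiniteType.isLocallyNoetherian f
  have hcX : CompactSpace Y := QuasiCompact.compactSpace_of_compactSpace f
  have hN : IsNoetherian Y := {}
  have h1 : DCoh.HasRpush f := Dcoh.DerSch.hasRpush f
  have hf : ∀ N : DCoh.D Y, DCoh.IsQCohD N → DCoh.IsQCohD ((DCoh.Rpush f).obj N) :=
    fun N hN => S0998.result f N hN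
  have := S1766.result _ _ f hf
  exact ⟨h1, hf, _, ⟨Adjunction.ofIsLeftAdjoint (ObjectProperty.lift DCoh.IsQCohD
    (ObjectProperty.ι DCoh.IsQCohD ⋙ DCoh.Rpush f) (fun K => hf K.obj K.property))⟩⟩

end Adj

theorem topologicalKrullDim_fiber_le {X S : Scheme.{u}} (f : X ⟶ S) (d : ℕ) (hd : Cyc.HasRelDim f d)
    (s : S) : topologicalKrullDim ↥(f.fiber s) ≤ d := by
  rw [S10831.result]
  exact iSup₂_le fun Z hZ => (hd s Z hZ).le

section Main

variable {A : Type u} [CommRing A] [IsNoetherianRing A] {Y : Scheme.{u}} [Y.Over (Spec (CommRingCat.of A))]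
  [IsProper (Y ↘ Spec (CommRingCat.of A))] (d : ℕ)
  (hd : ∀ s : Spec (CommRingCat.of A), topologicalKrullDim ↥((Y ↘ Spec (CommRingCat.of A)).fiber s) ≤ d)
  {ω : Y.Modules} (hω : RelCanon.IsDualizingSheaf A Y d ω)

include hd hω

/-- The relative dualizing sheaf on an affine chart. -/
theorem nonempty_restrict_iso {B : CommRingCat.{u}} [Algebra A B] (j : Spec B ⟶ Y) [IsOpenImmersion j]
    (hj : j ≫ (Y ↘ Spec (CommRingCat.of A)) = Spec.map (CommRingCat.ofHom (algebraMap A B))) (n : ℕ)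
    (ψ : MvPolynomial (Fin n) A →ₐ[A] B) (hψ : Function.Surjective ψ)
    [DRing.HasLBaseChange (algebraMap A (MvPolynomial (Fin n) A))]
    (Rψ : _root_.Dual.D (MvPolynomial (Fin n) A) ⥤ _root_.Dual.D B) (adjψ : DRing.restrictD ψ.toRingHom ⊣ Rψ) :
    Nonempty (ω.restrict j ≅ (tilde.functor B).obj ((DerivedCategory.homologyFunctor (ModuleCat.{u} B)
      (-(d : ℤ))).obj (Dual2.shriekVia n Rψ (_root_.Dual.inD A A)))) := by
  let f := Y ↘ Spec (CommRingCat.of A)
  obtain ⟨h1, h, a, ⟨adj⟩⟩ := exists_adj A f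
  have hO : DCoh.IsQCohD (DCoh.inD (Spec (CommRingCat.of A)) (Coh.structureModule (Spec (CommRingCat.of A)))) :=
    PerfA.QCohD.isQCohD_inD _ (PerfA.QCohSerre.isQCoh_unit _)
  let O : DCoh.DQCoh (Spec (CommRingCat.of A)) := ⟨_, hO⟩
  obtain ⟨e1⟩ := K968.Compare1.iso_HD A d hd adj O ⟨Iso.refl _⟩ hω
  have hj' : j ≫ f = Spec.map (CommRingCat.ofHom (ψ.toRingHom.comp MvPolynomial.C)) := by
    rw [hj]
    congr 2
    ext r
    exact (ψ.commutes r).symm
  obtain ⟨e2⟩ := Dual.H349.Bridge.bridge_affine A f (K := O.obj) (Iso.refl _)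
    (univ_of_adj (h := h) (a := a) adj O) j n ψ.toRingHom hψ hj' adjψ
  have := PerfB.TildeExact.preservesFiniteLimits_tilde B
  have := Dcoh.LocalD.preservesFiniteLimits_restrict j
  exact ⟨(Scheme.Modules.restrictFunctor j).mapIso e1 ≪≫
    Dual.H318.CMShriek.hdIso' (K := (a.obj O).obj) (N := Dual2.shriekVia n Rψ (_root_.Dual.inD A A))
      e2 (-(d : ℤ))⟩

end Main

end K969.LocChart
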