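import Groth.Agent.QGor.K969.FieldCM
import Groth.Agent.QGor.K969.ChartFib
import Groth.Agent.QGor.K969.LocChart

/-!
# The dualizing sheaf of a proper Cohen–Macaulay scheme of pure dimension over a field

* `mem_support_HD`: the support of `H^{-d}(φ^! k)` is everything if `C` is of pure dimension `d`;
* `skAt_tilde_iff`, `skAt_chart_iff`: `(S_k)` on a chart;
* `skAt_and_mem_support`: the dualizing sheaf of a proper Cohen–Macaulay scheme of pure dimension over a field is
  `(S_m)` for every `m`, and its support is everything.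
-/

set_option autoImplicit false
universe u

open CategoryTheory AlgebraicGeometry Limits

attribute [local instance] HasDerivedCategory.standard

namespace K969.FieldSch

open Groth.Agent

theorem mem_support_HD (k : Type u) [Field k] {C : Type u} [CommRing C] [IsNoetherianRing C] [Algebra k C] (n : ℕ)
    (ψ : MvPolynomial (Fin n) k →ₐ[k] C) (hψ : Function.Surjective ψ)
    [DRing.HasLBaseChange (algebraMap k (MvPolynomial (Fin n) k))]
    (Rψ : Dual.D (MvPolynomial (Fin n) k) ⥤ Dual.D C) (adj : DRing.restrictD ψ.toRingHom ⊣ Rψ)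
    (d : ℕ) (hd : ∀ q : PrimeSpectrum C,
      FlatMor.fibreDimAt (Spec.map (CommRingCat.ofHom (algebraMap k C))) q = d) (q : PrimeSpectrum C) :
    q ∈ Module.support C (Dual.HD C (Dual2.shriekVia n Rψ (Dual.inD k k)) (-(d : ℤ))) := by
  obtain ⟨δ, hω, hδ, hmin, hdim⟩ := K969.FieldCM.exists_delta k n ψ hψ Rψ adj d hd
  obtain ⟨q₀, hq₀, hle⟩ := K967.Ordinary.exists_minimal_le' q
  have h1 := K967.Ordinary.mem_support_of_minimal hδ q₀ hq₀
  rw [hmin q₀ hq₀] at h1
  exact Module.mem_support_mono hle h1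

section Chart

variable {C : Type u} [CommRing C]

theorem skAt_tilde_iff (M : Type u) [AddCommGroup M] [Module C M] (k : ℕ) (q : PrimeSpectrum C)
    (x : Spec (CommRingCat.of C)) (hx : x = q) :
    RelCanon.SkAt k (tilde (R := CommRingCat.of C) (ModuleCat.of C M)) x ↔
      EGA4.HasSkAt k C M q.asIdeal := by
  obtain ⟨σ, e, -, he⟩ := K970.RelSk2.exists_stalk_equiv M q x hx
  exact (K970.RelSk1.hasSk_iff_of_semilinearEquiv k σ e he).symm

theorem mem_support_tilde_iff (M : Type u) [AddCommGroup M] [Module C M] (q : PrimeSpectrum C)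
    (x : Spec (CommRingCat.of C)) (hx : x = q) :
    x ∈ CohB1.support (tilde (R := CommRingCat.of C) (ModuleCat.of C M)) ↔ q ∈ Module.support C M := by
  obtain ⟨σ, e, -, he⟩ := K970.RelSk2.exists_stalk_equiv M q x hx
  change ¬ Subsingleton _ ↔ Nontrivial _
  rw [not_subsingleton_iff_nontrivial]
  exact e.toEquiv.symm.nontrivial_congr

variable {X Z : Scheme.{u}} (j : Z ⟶ X) [IsOpenImmersion j] (F : X.Modules) (x : Z)

theorem skAt_restrict_iff (k : ℕ) :
    RelCanon.SkAt k (F.restrict j) x ↔ RelCanon.SkAt k F (j x) := by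
  refine (K970.RelSk1.hasSk_iff_of_semilinearEquiv k (asIso (j.stalkMap x)).commRingCatIsoToRingEquiv
    (Ega3B.FlatRestrict.stalkEquiv j F x).symm ?_).symm
  intro r m
  apply (Ega3B.FlatRestrict.stalkEquiv j F x).injective
  rw [AddEquiv.apply_symm_apply]
  refine Eq.trans ?_ (Ega3B.FlatRestrict.stalkEquiv_smul j F x r _).symm
  rw [AddEquiv.apply_symm_apply]

theorem mem_support_restrict_iff :
    x ∈ CohB1.support (F.restrict j) ↔ j x ∈ CohB1.support F := by
  change ¬ Subsingleton _ ↔ ¬ Subsingleton _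
  rw [(Ega3B.FlatRestrict.stalkEquiv j F x).toEquiv.subsingleton_congr]

end Chart

theorem mem_support_iff_of_iso {X : Scheme.{u}} {F G : X.Modules} (e : F ≅ G) (x : X) :
    x ∈ CohB1.support F ↔ x ∈ CohB1.support G := by
  change ¬ Subsingleton _ ↔ ¬ Subsingleton _
  rw [(Fdesc.Skyscraper.stalkIso e x).toEquiv.subsingleton_congr]

/-- The dualizing sheaf of a proper Cohen–Macaulay scheme of pure dimension over a field. -/
theorem skAt_and_mem_support (k : Type u) [Field k] (X : Scheme.{u}) [X.Over (Spec (CommRingCat.of k))]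
    [IsProper (X ↘ Spec (CommRingCat.of k))] (d : ℕ) (hd : Cyc.HasRelDim (X ↘ Spec (CommRingCat.of k)) d)
    (hCM : ∀ x : X, MoreMor.IsCMAt (X ↘ Spec (CommRingCat.of k)) x)
    (ω : X.Modules) (hω : RelCanon.IsDualizingSheaf k X d ω) (x : X) (m : ℕ) :
    RelCanon.SkAt m ω x ∧ x ∈ CohB1.support ω := by
  obtain ⟨U, hU, hxU, -⟩ := exists_isAffineOpen_mem_and_subset (x := x) (U := ⊤) trivial
  have hflat : Flat (X ↘ Spec (CommRingCat.of k)) := by
    rw [Flat.iff_flat_stalkMap]
    exact fun x => (hCM x).1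
  obtain ⟨alg, hj, hft, hfl, hN⟩ := K969.ChartFib.exists_algebra (X ↘ Spec (CommRingCat.of k)) U hU
  obtain ⟨n, ψ, hψ⟩ := Algebra.FiniteType.iff_quotient_mvPolynomial''.mp hft
  have hL := Groth.Agent.LoccohB.LBC.hasLBaseChange (algebraMap k (MvPolynomial (Fin n) k))
  obtain ⟨eω⟩ := K969.LocChart.nonempty_restrict_iso d
    (K969.LocChart.topologicalKrullDim_fiber_le _ d hd) hω hU.fromSpec hj n ψ hψ _
    (Groth.Agent.LoccohB.RAdj.coextAdj ψ.toRingHom)
  have hd' := K969.ChartFib.fibreDimAt_chart _ hU.fromSpec hj d hd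
  have hCM' : ∀ q : PrimeSpectrum Γ(X, U),
      LocCoh.IsCohenMacaulayLocalRing (EGA4.FibLocRing k Γ(X, U) q.asIdeal) := by
    intro q
    obtain ⟨e⟩ := K969.ChartFib.nonempty_equiv _ hU.fromSpec hj q q rfl
    have := (hCM (hU.fromSpec q)).2
    exact Flat2D.FiberStalk.isCohenMacaulayLocalRing_of_ringEquiv e.symm
  obtain ⟨q, rfl⟩ : x ∈ Set.range hU.fromSpec := by
    rw [hU.range_fromSpec]
    exact hxU
  have h1 := K969.FieldCM.hasSk_HD k n ψ hψ _ (Groth.Agent.LoccohB.RAdj.coextAdj ψ.toRingHom) d hd' hCM' m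
  have h2 := mem_support_HD k n ψ hψ _ (Groth.Agent.LoccohB.RAdj.coextAdj ψ.toRingHom) d hd' q
  rw [Ega4B.SkLocal.hasSk_iff_forall_hasSkAt] at h1
  refine ⟨?_, ?_⟩
  · rw [← skAt_restrict_iff, K970.RelSk1.skAt_iff_of_iso m eω q]
    exact (skAt_tilde_iff _ m q q rfl).mpr (h1 _)
  · rw [← mem_support_restrict_iff, mem_support_iff_of_iso eω]
    exact (mem_support_tilde_iff _ q q rfl).mpr h2

end K969.FieldSch
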