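import Groth.Agent.QGor.K969.FibRef

/-!
# The index on the fibres, and the direct image of the powers of the canonical sheaf

* `fibre_isQGor`: if `ω^{[r]}` is invertible on `U`, the index of the canonical sheaf of a fibre divides `r` over `U`;
* `iff_nhd`: the two conditions of the criterion are equivalent, if `ω` is invertible on `Yo` and commutes with passage to
  fibres there.
-/

set_option autoImplicit false
universe u

open CategoryTheory AlgebraicGeometry TopologicalSpace RefHull RelCanon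

namespace K969.Gor33

open Groth.Agent Groth.Agent.CohqB.QC2 K969.RefU K969.UnitLoc K969.FibRef

theorem isSkMor_restrict {X Y : Scheme.{u}} (f : X ⟶ Y) (V : X.Opens) {k : ℕ} (h : IsSkMor f k) :
    IsSkMor (V.ι ≫ f) k := by
  obtain ⟨h1, h2, h3⟩ := h
  exact ⟨inferInstance, inferInstance, fun z => K969.FibDimSch.skAt_restrict f V k z (h3 _)⟩

section

variable {A : Type u} [CommRing A] [IsNoetherianRing A] {X : Scheme.{u}}
  (f : X ⟶ Spec (CommRingCat.of A)) (hS : IsSkMor f 2) (Yo U : X.Opens) (ω : X.Modules)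
  (hgor : ∀ z ∈ Yo, InvertibleAt ω z)
  (hcod : ∀ z ∈ U, z ∉ Yo →
    (2 : WithBot ℕ∞) ≤ ringKrullDim ((f.fiber (f z)).presheaf.stalk (f.asFiber z)))

include hS hgor hcod

/-- If `ω^{[r]}` is invertible over `U`, then so is the `r`-th reflexive power of the canonical sheaf of a fibre. -/
theorem fibre_invertibleAt (t : Spec (CommRingCat.of A)) (ωt : (f.fiber t).Modules)
    (hcmp : Nonempty (((Scheme.Modules.pullback (f.fiberι t)).obj ω).restrict
      (f.fiberι t ⁻¹ᵁ Yo).ι ≅ ωt.restrict (f.fiberι t ⁻¹ᵁ Yo).ι)) (r : ℕ)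
    (hinv : ∀ z ∈ U, InvertibleAt (refPowZ ω r) z) (x : f.fiber t) (hx : f.fiberι t x ∈ U) :
    InvertibleAt (refPowZ ωt r) x ∧ gorIndexWithAt ωt x ∣ r := by
  have hft : LocallyOfFiniteType f := hS.2.1
  have hflat : Flat f := hS.1
  have hXN : IsLocallyNoetherian X := LocallyOfFiniteType.isLocallyNoetherian f
  have H := K970.BCHyp.isPullback_fibre f t
  have hSt : IsSkMor (f.fiberToSpecResidueField t) 2 :=
    K970.BCHyp.isSkMor_cat (K970.BCHyp.toRes t) H 2 hS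
  have hftt : LocallyOfFiniteType (f.fiberToSpecResidueField t) := hSt.2.1
  have hκ : IsNoetherianRing ((Spec (CommRingCat.of A)).residueField t) := inferInstance
  have hKN : IsLocallyNoetherian (Spec ((Spec (CommRingCat.of A)).residueField t)) := inferInstance
  have hXtN : IsLocallyNoetherian (f.fiber t) :=
    LocallyOfFiniteType.isLocallyNoetherian (f.fiberToSpecResidueField t)
  set ι := f.fiberι t with hι
  have hcod' : ∀ z : f.fiber t, z ∈ ι ⁻¹ᵁ U → z ∉ ι ⁻¹ᵁ Yo → (2 : WithBot ℕ∞) ≤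
      ringKrullDim (((f.fiberToSpecResidueField t).fiber
        ((f.fiberToSpecResidueField t) z)).presheaf.stalk
          ((f.fiberToSpecResidueField t).asFiber z)) := fun z hz hz' =>
    (hcod (ι z) hz hz').trans (K970.BCHyp.ringKrullDim_fibre_le_cat (K970.BCHyp.toRes t) H z)
  have hSV := isSkMor_restrict (f.fiberToSpecResidueField t) (ι ⁻¹ᵁ U) hSt
  have hO := res_structure_bijective (f.fiberToSpecResidueField t) (ι ⁻¹ᵁ U) (ι ⁻¹ᵁ Yo) hSV hcod'
  have hG := res_refPowZ_bijective (f.fiberToSpecResidueField t) (ι ⁻¹ᵁ U) (ι ⁻¹ᵁ Yo) hSV hcod' ωt r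
  obtain ⟨e1⟩ := nonempty_pullback_refPowZ ι Yo ω hgor r
  obtain ⟨e0⟩ := hcmp
  obtain ⟨e2⟩ := nonempty_refPowZ_iso e0 r
  obtain ⟨e3⟩ := nonempty_restrict_refPowZ (ι ⁻¹ᵁ Yo).ι ωt r
  have hinvx : InvertibleAt (refPowZ ωt r) x :=
    invertibleAt_of_agree (ι ⁻¹ᵁ U) (ι ⁻¹ᵁ Yo) hO
      ((Scheme.Modules.pullback ι).obj (refPowZ ω r)) (refPowZ ωt r)
      (fun z hz => K970.InvAt.invertibleAt_pullback ι _ z (hinv _ hz)) hG
      ⟨e1 ≪≫ e2 ≪≫ e3.symm⟩ hx
  refine ⟨hinvx, gorIndexWithAt_dvd (ι ⁻¹ᵁ U) (ι ⁻¹ᵁ Yo) x hx hO ωt ?_ hinvx⟩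
  intro z hz
  have h1 : InvertibleAt (((Scheme.Modules.pullback ι).obj ω).restrict (ι ⁻¹ᵁ Yo).ι) ⟨z, hz.2⟩ :=
    (K970.InvAt.invertibleAt_restrict_iff _ _ _).mpr
      (K970.InvAt.invertibleAt_pullback ι ω z (hgor _ hz.2))
  exact (K970.InvAt.invertibleAt_restrict_iff _ _ _).mp (K970.InvAt.invertibleAt_of_iso e0 _ h1)

omit hgor in
/-- The direct image of the tensor powers of `ω|_{Yo}` is the reflexive power of `ω`, over `U`. -/
theorem nonempty_pushforward_iso (hgor : ∀ z ∈ Yo, InvertibleAt ω z) (r : ℕ) :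
    Nonempty ((refPowZ ω r).restrict U.ι ≅
      ((Scheme.Modules.pushforward Yo.ι).obj
        (CohB1.tensorPow (ω.restrict Yo.ι) r)).restrict U.ι) := by
  have hft : LocallyOfFiniteType f := hS.2.1
  have hXN : IsLocallyNoetherian X := LocallyOfFiniteType.isLocallyNoetherian f
  have hFU : PicF.IsInvertible (ω.restrict Yo.ι) := by
    intro x
    exact (K970.InvAt.invertibleAt_restrict_iff Yo.ι ω x).mpr (hgor _ x.2)
  obtain ⟨e2⟩ := nonempty_restrict_refPowZ Yo.ι ω r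
  obtain ⟨e3⟩ := nonempty_refPowZ_iso_tensorPow hFU r
  exact nonempty_restrict_pushforward_iso (refPowZ ω r) U Yo (e2 ≪≫ e3)
    (res_refPowZ_bijective f U Yo (isSkMor_restrict f U hS) hcod ω r)

theorem invertibleAt_pushforward_iff (r : ℕ) {y : X} (hy : y ∈ U) :
    InvertibleAt ((Scheme.Modules.pushforward Yo.ι).obj
        (CohB1.tensorPow (ω.restrict Yo.ι) r)) y ↔ InvertibleAt (refPowZ ω r) y := by
  obtain ⟨e⟩ := nonempty_pushforward_iso f hS Yo U ω hcod hgor r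
  exact (K970.InvAt.invertibleAt_restrict_iff U.ι _ ⟨y, hy⟩).symm.trans
    ((K970.InvAt.invertibleAt_iff_of_iso e ⟨y, hy⟩).symm.trans
      (K970.InvAt.invertibleAt_restrict_iff U.ι (refPowZ ω r) ⟨y, hy⟩))

end

/-- The criterion, given that `ω` is invertible on `Yo` and commutes with passage to the fibres there. -/
theorem iff_nhd {A : Type u} [CommRing A] [IsNoetherianRing A] {X : Scheme.{u}}
    (f : X ⟶ Spec (CommRingCat.of A)) (hS : IsSkMor f 2) (d : ℕ) (hd : Cyc.HasRelDim f d)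
    (Yo : X.Opens) (ω : X.Modules) (hgor : ∀ z ∈ Yo, InvertibleAt ω z)
    (D : ∀ t : Spec (CommRingCat.of A), (f.fiber t).Modules → Prop)
    (hcmp : ∀ (t : Spec (CommRingCat.of A)) (ωt : (f.fiber t).Modules), D t ωt →
      Nonempty (((Scheme.Modules.pullback (f.fiberι t)).obj ω).restrict
        (f.fiberι t ⁻¹ᵁ Yo).ι ≅ ωt.restrict (f.fiberι t ⁻¹ᵁ Yo).ι))
    (y : X) (r : ℕ) (hr : 0 < r) :
    ((∀ z : X, f z = f y → z ∉ Yo → z ⤳ y →
        (2 : WithBot ℕ∞) ≤ ringKrullDim ((f.fiber (f z)).presheaf.stalk (f.asFiber z))) ∧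
      InvertibleAt ((Scheme.Modules.pushforward Yo.ι).obj
        (CohB1.tensorPow (ω.restrict Yo.ι) r)) y) ↔
    (∃ U : X.Opens, y ∈ U ∧ ∀ z : X, z ∈ U →
      InvertibleAt (refPowZ ω r) z ∧
      (z ∉ Yo → (2 : WithBot ℕ∞) ≤
        ringKrullDim ((f.fiber (f z)).presheaf.stalk (f.asFiber z))) ∧
      ∀ ωz : (f.fiber (f z)).Modules, D (f z) ωz →
        IsQGorWithAt ωz (f.asFiber z) ∧ gorIndexWithAt ωz (f.asFiber z) ∣ r) := by
  have hft : LocallyOfFiniteType f := hS.2.1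
  constructor
  · rintro ⟨hc, hinv⟩
    obtain ⟨V, -, hyV, hV⟩ := K969.FibDimSch.exists_open_codim_ge f d ⊤
      (fun z _ => (K582.FibRelDim.hasRelDim_iff f d).mp hd z) y trivial Yo 2 hc
    have hy : InvertibleAt (refPowZ ω r) y :=
      (invertibleAt_pushforward_iff f hS Yo V ω hgor hV r hyV).mp hinv
    refine ⟨V ⊓ K970.InvAt.invLocus (refPowZ ω r), ⟨hyV, hy⟩, fun z hz => ⟨hz.2, hV z hz.1, ?_⟩⟩
    intro ωz hωz
    have h := fibre_invertibleAt f hS Yo (V ⊓ K970.InvAt.invLocus (refPowZ ω r)) ω hgor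
      (fun z hz => hV z hz.1) (f z) ωz (hcmp _ _ hωz) r (fun z hz => hz.2) (f.asFiber z)
      (by rw [Scheme.Hom.fiberι_asFiber]; exact hz)
    exact ⟨⟨r, hr, h.1⟩, h.2⟩
  · rintro ⟨U, hyU, h⟩
    refine ⟨fun z _ hzo hzy => (h z (hzy.mem_open U.isOpen hyU)).2.1 hzo, ?_⟩
    exact (invertibleAt_pushforward_iff f hS Yo U ω hgor (fun z hz => (h z hz).2.1) r hyU).mpr
      (h y hyU).1

end K969.Gor33
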