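import Groth.Agent.QGor.K970.InvAt
import Groth.Agent.QGor.K967.HomUnit
import Groth.Agent.SDiv.K476.HomSh5
import Groth.Agent.Fga.PicMon
import Groth.Agent.Ega3B.TensRestrict
import Groth.Agent.S2329

/-!
# Modules which are the direct image of their restriction to an open subscheme

* `nonempty_restrict_refPowZ`: `F^{[m]}|_V = (F|_V)^{[m]}`;
* `nonempty_ddual_iso`: `F^** = F` for `F` invertible;
* `isIso_unit_restrict_iff`: `F|_V → j_* j^* F|_V` in terms of sections;
* `nonempty_iso_of_unit`: two modules which are direct images of their restrictions to `U` and agree on `U` are isomorphic;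
* `invertibleAt_sub`: if `O_X = j_* O_U`, `F` is invertible on `U` and `F^{[a]}`, `F^{[b]}` are invertible at `x` then so is
  `F^{[a - b]}`;
* `gorIndexWithAt_dvd`: under the same hypotheses the index at `x` divides every `r` with `F^{[r]}` invertible at `x`.
-/

set_option autoImplicit false
universe u

open CategoryTheory AlgebraicGeometry TopologicalSpace RefHull RelCanon

namespace K969.RefU

open Groth.Agent Groth.Agent.CohqB.QC2 K476.HomSh1 K476.HomSh4 K476.HomSh5
open Groth.Agent.Fga.PicMon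

variable {X Y : Scheme.{u}}

theorem nonempty_tensorPow_iso {F G : X.Modules} (e : F ≅ G) (n : ℕ) :
    Nonempty (CohB1.tensorPow F n ≅ CohB1.tensorPow G n) := by
  rw [← mc_eq_iff, mc_tensorPow, mc_tensorPow, mc_eq e]

theorem nonempty_refPowZ_iso {F G : X.Modules} (e : F ≅ G) (m : ℤ) :
    Nonempty (refPowZ F m ≅ refPowZ G m) := by
  cases m with
  | ofNat n =>
    obtain ⟨e⟩ := nonempty_tensorPow_iso e n
    exact ⟨ddualIso e⟩
  | negSucc n =>
    obtain ⟨e⟩ := nonempty_tensorPow_iso (dualIso e) (n + 1)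
    exact ⟨ddualIso e⟩

/-- Reflexive powers and restriction to open subschemes. -/
theorem nonempty_restrict_refPowZ (j : Y ⟶ X) [IsOpenImmersion j] (F : X.Modules) (m : ℤ) :
    Nonempty ((refPowZ F m).restrict j ≅ refPowZ (F.restrict j) m) := by
  cases m with
  | ofNat n =>
    obtain ⟨e⟩ := Ega3B.TensRestrict.restrictPowIso j F n
    exact ⟨restrictDDual j _ ≪≫ ddualIso e⟩
  | negSucc n =>
    obtain ⟨e⟩ := Ega3B.TensRestrict.restrictPowIso j (dual F) (n + 1)
    obtain ⟨e'⟩ := nonempty_tensorPow_iso (restrictDual j F) (n + 1)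
    exact ⟨restrictDDual j _ ≪≫ ddualIso (e ≪≫ e')⟩

/-- An invertible module is its double dual. -/
theorem nonempty_ddual_iso [IsLocallyNoetherian X] {F : X.Modules} (hF : PicF.IsInvertible F) :
    Nonempty (ddual F ≅ F) := by
  have hc : Coh.IsCoh F := Groth.Agent.S2329.isCoh_of_isInvertible hF
  have : IsIso (bidualMap F) := by
    rw [isIso_iff_stalk]
    exact fun x => bijective_stalkMapₗ_bidualMap_of_free hc x (K970.InvAt.free_stalk x (hF x))
  exact ⟨(asIso (bidualMap F)).symm⟩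

theorem isIso_unit_restrict_iff (V U : X.Opens) (F : X.Modules) :
    IsIso ((Scheme.Modules.restrictAdjunction (V.ι ⁻¹ᵁ U).ι).unit.app (F.restrict V.ι)) ↔
      ∀ W : X.Opens, W ≤ V → Function.Bijective (res F (inf_le_left : W ⊓ U ≤ W)) := by
  rw [Divis.ReflexSheaf.isIso_unit_iff]
  have key : ∀ W' : (V : Scheme.{u}).Opens,
      Function.Bijective (res (F.restrict V.ι) (inf_le_left : W' ⊓ V.ι ⁻¹ᵁ U ≤ W')) ↔
        Function.Bijective (res F (inf_le_left : V.ι ''ᵁ W' ⊓ U ≤ V.ι ''ᵁ W')) := by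
    intro W'
    have h0 : V.ι ''ᵁ (W' ⊓ V.ι ⁻¹ᵁ U) = V.ι ''ᵁ W' ⊓ U := by
      ext x
      constructor
      · rintro ⟨y, hy, rfl⟩
        exact ⟨⟨y, hy.1, rfl⟩, hy.2⟩
      · rintro ⟨⟨y, hy, rfl⟩, hU⟩
        exact ⟨y, ⟨hy, hU⟩, rfl⟩
    have hle : V.ι ''ᵁ (W' ⊓ V.ι ⁻¹ᵁ U) ≤ V.ι ''ᵁ W' := h0.le.trans inf_le_left
    change Function.Bijective (res F hle) ↔ _
    have h1 : res F hle = (res F h0.le).comp (res F (inf_le_left : V.ι ''ᵁ W' ⊓ U ≤ V.ι ''ᵁ W')) := by
      ext m
      simp [res_res]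
    have h2 := res_injective_of_eq F h0.le h0.symm
    rw [h1]
    constructor
    · intro h
      exact (Function.Bijective.of_comp_iff' h2 _).mp h
    · intro h
      exact h2.comp h
  constructor
  · intro h W hW
    have h1 := (key (V.ι ⁻¹ᵁ W)).mp (h (V.ι ⁻¹ᵁ W))
    have h2 : V.ι ''ᵁ (V.ι ⁻¹ᵁ W) = W := by
      rw [Scheme.Hom.image_preimage_eq_opensRange_inf, Scheme.Opens.opensRange_ι]
      exact inf_eq_right.mpr hW
    rwa [h2] at h1
  · intro h W'
    rw [key]
    refine h _ ?_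
    have := V.ι.image_le_opensRange W'
    rwa [Scheme.Opens.opensRange_ι] at this

theorem isIso_unit_restrict (V U : X.Opens) (F : X.Modules)
    (h : IsIso ((Scheme.Modules.restrictAdjunction U.ι).unit.app F)) :
    IsIso ((Scheme.Modules.restrictAdjunction (V.ι ⁻¹ᵁ U).ι).unit.app (F.restrict V.ι)) := by
  rw [Divis.ReflexSheaf.isIso_unit_iff] at h
  rw [isIso_unit_restrict_iff]
  exact fun W _ => h W

/-- Two modules which are direct images of their restrictions to `U` and agree on `U` are isomorphic. -/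
theorem nonempty_iso_of_unit (U : X.Opens) {F G : X.Modules}
    (hF : IsIso ((Scheme.Modules.restrictAdjunction U.ι).unit.app F))
    (hG : IsIso ((Scheme.Modules.restrictAdjunction U.ι).unit.app G))
    (e : F.restrict U.ι ≅ G.restrict U.ι) : Nonempty (F ≅ G) :=
  ⟨asIso ((Scheme.Modules.restrictAdjunction U.ι).unit.app F) ≪≫
    (Scheme.Modules.pushforward U.ι).mapIso e ≪≫
      (asIso ((Scheme.Modules.restrictAdjunction U.ι).unit.app G)).symm⟩

theorem isIso_unit_of_iso (U : X.Opens) {F G : X.Modules} (e : F ≅ G)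
    (hF : IsIso ((Scheme.Modules.restrictAdjunction U.ι).unit.app F)) :
    IsIso ((Scheme.Modules.restrictAdjunction U.ι).unit.app G) := by
  have h := (Scheme.Modules.restrictAdjunction U.ι).unit.naturality e.hom
  have h1 : (Scheme.Modules.restrictAdjunction U.ι).unit.app G = e.inv ≫
      (Scheme.Modules.restrictAdjunction U.ι).unit.app F ≫
        (Scheme.Modules.restrictFunctor U.ι ⋙ Scheme.Modules.pushforward U.ι).map e.hom := by
    rw [← h]
    simp
  rw [h1]
  infer_instance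

/-- The reflexive powers of an invertible module are the tensor powers. -/
theorem nonempty_refPowZ_iso_tensorPow [IsLocallyNoetherian X] {F : X.Modules}
    (hF : PicF.IsInvertible F) (n : ℕ) : Nonempty (refPowZ F n ≅ CohB1.tensorPow F n) :=
  nonempty_ddual_iso fun x => K970.InvAt.invertibleAt_tensorPow x (hF x) n

section Sub

variable [IsLocallyNoetherian X] (U : X.Opens)
  (hO : IsIso ((Scheme.Modules.restrictAdjunction U.ι).unit.app (Coh.structureModule X)))
  (F : X.Modules) (hF : ∀ z ∈ U, InvertibleAt F z)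

include hO hF

theorem nonempty_iso_sub {a b : ℕ} (hab : b ≤ a) (ha : Nonempty (refPowZ F a ≅ Coh.structureModule X))
    (hb : Nonempty (refPowZ F b ≅ Coh.structureModule X)) :
    Nonempty (refPowZ F ((a - b : ℕ) : ℤ) ≅ Coh.structureModule X) := by
  have hFU : PicF.IsInvertible (F.restrict U.ι) := by
    intro x
    exact (K970.InvAt.invertibleAt_restrict_iff U.ι F x).mpr (hF _ x.2)
  have key : ∀ n : ℕ, Nonempty ((refPowZ F n).restrict U.ι ≅ CohB1.tensorPow (F.restrict U.ι) n) := by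
    intro n
    obtain ⟨e⟩ := nonempty_restrict_refPowZ U.ι F n
    obtain ⟨e'⟩ := nonempty_refPowZ_iso_tensorPow hFU n
    exact ⟨e ≪≫ e'⟩
  have key2 : ∀ n : ℕ, Nonempty (refPowZ F n ≅ Coh.structureModule X) →
      mc (F.restrict U.ι) ^ n = 1 := by
    rintro n ⟨e⟩
    obtain ⟨e'⟩ := key n
    rw [← mc_tensorPow, ← mc_one, mc_eq_iff]
    exact ⟨e'.symm ≪≫ (Scheme.Modules.restrictFunctor U.ι).mapIso e ≪≫
      Scheme.Modules.restrictUnitIso U.ι⟩
  have h1 : mc (F.restrict U.ι) ^ (a - b) = 1 := by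
    have h2 := key2 a ha
    have h3 := key2 b hb
    rw [← Nat.sub_add_cancel hab, pow_add, h3, mul_one] at h2
    exact h2
  rw [← mc_tensorPow, ← mc_one, mc_eq_iff] at h1
  obtain ⟨e⟩ := h1
  obtain ⟨e'⟩ := key (a - b)
  exact nonempty_iso_of_unit U (K967.HomUnit.isIso_unit_refPowZ F U hO _) hO
    (e' ≪≫ e ≪≫ (Scheme.Modules.restrictUnitIso U.ι).symm)

end Sub

theorem invertibleAt_iff_exists_open (F : X.Modules) (x : X) :
    InvertibleAt F x ↔ ∃ V : X.Opens, x ∈ V ∧ ∀ W : X.Opens, W ≤ V →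
      Nonempty (F.restrict W.ι ≅ Coh.structureModule (W : Scheme.{u})) := by
  constructor
  · rintro ⟨V, hx, ⟨e⟩⟩
    refine ⟨V, hx, fun W hW => ?_⟩
    have : X.homOfLE hW ≫ V.ι = W.ι := X.homOfLE_ι hW
    exact ⟨(Scheme.Modules.restrictFunctorCongr (X.homOfLE_ι hW).symm).app F ≪≫
      (Scheme.Modules.restrictFunctorComp (X.homOfLE hW) V.ι).app F ≪≫
      (Scheme.Modules.restrictFunctor (X.homOfLE hW)).mapIso e ≪≫
      Scheme.Modules.restrictUnitIso (X.homOfLE hW)⟩
  · rintro ⟨V, hx, h⟩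
    exact ⟨V, hx, h V le_rfl⟩

section Dvd

variable [IsLocallyNoetherian X] (V U : X.Opens) (x : X) (hx : x ∈ V)
  (hO : ∀ W : X.Opens, W ≤ V → Function.Bijective
    (res (Coh.structureModule X) (inf_le_left : W ⊓ U ≤ W)))
  (F : X.Modules) (hF : ∀ z ∈ V ⊓ U, InvertibleAt F z)

include hx hO hF

/-- If `F^{[a]}` and `F^{[b]}` are invertible at `x` then so is `F^{[a - b]}`. -/
theorem invertibleAt_sub {a b : ℕ} (hab : b ≤ a) (ha : InvertibleAt (refPowZ F a) x)
    (hb : InvertibleAt (refPowZ F b) x) : InvertibleAt (refPowZ F ((a - b : ℕ) : ℤ)) x := by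
  obtain ⟨Va, hxa, hVa⟩ := (invertibleAt_iff_exists_open _ x).mp ha
  obtain ⟨Vb, hxb, hVb⟩ := (invertibleAt_iff_exists_open _ x).mp hb
  let W : X.Opens := V ⊓ Va ⊓ Vb
  have hxW : x ∈ W := ⟨⟨hx, hxa⟩, hxb⟩
  obtain ⟨ea⟩ := hVa W (inf_le_left.trans inf_le_right)
  obtain ⟨eb⟩ := hVb W inf_le_right
  have hOW : IsIso ((Scheme.Modules.restrictAdjunction (W.ι ⁻¹ᵁ U).ι).unit.app
      (Coh.structureModule (W : Scheme.{u}))) := by
    refine isIso_unit_of_iso _ (Scheme.Modules.restrictUnitIso W.ι) ?_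
    rw [isIso_unit_restrict_iff]
    exact fun W' hW' => hO W' (hW'.trans (inf_le_left.trans inf_le_left))
  have hFW : ∀ z ∈ W.ι ⁻¹ᵁ U, InvertibleAt (F.restrict W.ι) z := by
    intro z hz
    rw [K970.InvAt.invertibleAt_restrict_iff]
    exact hF _ ⟨z.2.1.1, hz⟩
  obtain ⟨ea'⟩ := nonempty_restrict_refPowZ W.ι F a
  obtain ⟨eb'⟩ := nonempty_restrict_refPowZ W.ι F b
  obtain ⟨ec'⟩ := nonempty_restrict_refPowZ W.ι F ((a - b : ℕ) : ℤ)
  obtain ⟨ec⟩ := nonempty_iso_sub (W.ι ⁻¹ᵁ U) hOW (F.restrict W.ι) hFW hab ⟨ea'.symm ≪≫ ea⟩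
    ⟨eb'.symm ≪≫ eb⟩
  exact ⟨W, hxW, ⟨ec' ≪≫ ec⟩⟩

/-- The index divides every exponent with invertible reflexive power. -/
theorem gorIndexWithAt_dvd {r : ℕ} (h : InvertibleAt (refPowZ F r) x) :
    gorIndexWithAt F x ∣ r := by
  by_cases hne : ∃ s : ℕ, 0 < s ∧ InvertibleAt (refPowZ F s) x
  · have hmem : gorIndexWithAt F x ∈ {s : ℕ | 0 < s ∧ InvertibleAt (refPowZ F s) x} :=
      Nat.sInf_mem hne
    obtain ⟨hpos, hinv⟩ := hmem
    set n := gorIndexWithAt F x with hn
    have key : ∀ m : ℕ, InvertibleAt (refPowZ F m) x → n ∣ m := by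
      intro m
      induction m using Nat.strong_induction_on with
      | _ m ih =>
        intro hm
        rcases Nat.lt_or_ge m n with hlt | hge
        · rcases Nat.eq_zero_or_pos m with rfl | hm0
          · exact dvd_zero _
          · exfalso
            have : n ≤ m := Nat.sInf_le ⟨hm0, hm⟩
            omega
        · have h1 := ih (m - n) (by omega) (invertibleAt_sub V U x hx hO F hF hge hm hinv)
          exact (Nat.dvd_sub_iff_left hge (dvd_refl n)).mp h1
    exact key r h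
  · rcases Nat.eq_zero_or_pos r with rfl | hr
    · exact dvd_zero _
    · exact absurd ⟨r, hr, h⟩ hne

end Dvd

end K969.RefU
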