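import Groth.Agent.QGor.K967.EndTri2
import Groth.Agent.QGor.K967.Ordinary
import Groth.Agent.Dual.H319.Core
import Groth.Agent.S1790

/-!
# Supports of the cohomology of a relative dualizing complex whose fibres satisfy `(S_m)`

`R → A` flat of finite type of Noetherian rings, all fibres of pure dimension `d` with `(S_m)`, `ω = φ^!(R)`.
`exists_dim_of_mem_support`: for `i ≠ -d` and `q ∈ Supp H^i(ω)` with corresponding point `Q` of its fibre `Spec C`,
`dim C/Q ≤ -i - m`.
-/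

set_option autoImplicit false
universe u

open CategoryTheory AlgebraicGeometry
open scoped TensorProduct

attribute [local instance] HasDerivedCategory.standard

namespace K969.RelSupp

open Groth.Agent Groth.Agent.LoccohB Groth.Agent.Ega4C Groth.Agent.Dual.H319 Groth.Agent.CalgB.DzData
open K967.DeltaSk

section Field

variable (k : Type u) [Field k] {C : Type u} [CommRing C] [IsNoetherianRing C] [Algebra k C]
  [Algebra.FiniteType k C] {ω : Dual.D C} {δ : PrimeSpectrum C → ℤ}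

include k in
/-- On a finite type algebra over a field of pure dimension `d` the dimension function of a dualizing complex which is
normalized at the generic points is `dim C/Q`. -/
theorem delta_eq (h : IsDelta ω δ)
    (hgen : ∀ (Q : PrimeSpectrum C), Q.asIdeal ∈ minimalPrimes C → ∀ e : ℕ,
      ringKrullDim (C ⧸ Q.asIdeal) = e → ∀ i : ℤ, Q ∈ Module.support C (Dual.HD C ω i) ↔ i = -(e : ℤ))
    (d : ℕ) (hd : ∀ Q : PrimeSpectrum C, FlatMor.localDim (PrimeSpectrum C) Q = d) :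
    (∀ Q : PrimeSpectrum C, Q.asIdeal ∈ minimalPrimes C → δ Q = d) ∧
    ∀ Q : PrimeSpectrum C, 0 ≤ δ Q ∧ δ Q ≤ d ∧ ringKrullDim (C ⧸ Q.asIdeal) = ((δ Q).toNat : WithBot ℕ∞) := by
  have h1 : ∀ Q : PrimeSpectrum C, (d : WithBot ℕ∞) = Q.asIdeal.height + ringKrullDim (C ⧸ Q.asIdeal) := fun Q => by
    rw [← hd Q]
    exact CalgC.LocalDim.localDim_eq_height_add k Q.asIdeal
  have hmin : ∀ Q : PrimeSpectrum C, Q.asIdeal ∈ minimalPrimes C → δ Q = d := by
    intro Q hQ
    have h2 := h1 Q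
    rw [Ideal.height_eq_zero_iff.mpr hQ] at h2
    have h3 : ringKrullDim (C ⧸ Q.asIdeal) = d := by
      rw [h2]
      exact (zero_add _).symm
    have h4 := (hgen Q hQ d h3 (-δ Q)).mp (K967.Ordinary.mem_support_of_minimal h Q hQ)
    omega
  refine ⟨hmin, fun Q => ?_⟩
  have hc : ∀ q : PrimeSpectrum C, q.asIdeal ∈ (Module.annihilator C C).minimalPrimes → δ q = d := by
    intro q hq
    rw [Module.annihilator_eq_bot.mpr inferInstance] at hq
    exact hmin q hq
  have hQs : Q ∈ Module.support C C := by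
    rw [Module.mem_support_iff_of_finite, Module.annihilator_eq_bot.mpr inferInstance]
    exact bot_le
  obtain ⟨h5, h6⟩ := supportDim_eq h hc hQs
  have h7 : Module.supportDim (Localization.AtPrime Q.asIdeal) (LocalizedModule Q.asIdeal.primeCompl C) =
      Q.asIdeal.height := by
    rw [← IsLocalization.AtPrime.ringKrullDim_eq_height Q.asIdeal (Localization.AtPrime Q.asIdeal)]
    exact Ega4C.SkFlat.supportDim_locSelf Q.asIdeal
  rw [h7] at h6
  obtain ⟨e, he⟩ : ∃ e : ℕ, ringKrullDim (C ⧸ Q.asIdeal) = e := by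
    obtain ⟨e, -, he⟩ := Ega4B.DimFT.exists_dim k (C ⧸ Q.asIdeal)
    exact ⟨e, he⟩
  have h8 := h1 Q
  rw [h6, he] at h8
  have h9 : d = ((d : ℤ) - δ Q).toNat + e := by exact_mod_cast h8
  refine ⟨by omega, h5, ?_⟩
  rw [he]
  congr 2
  omega

include k in
theorem exists_dim_of_mem_support (h : IsDelta ω δ)
    (hgen : ∀ (Q : PrimeSpectrum C), Q.asIdeal ∈ minimalPrimes C → ∀ e : ℕ,
      ringKrullDim (C ⧸ Q.asIdeal) = e → ∀ i : ℤ, Q ∈ Module.support C (Dual.HD C ω i) ↔ i = -(e : ℤ))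
    (d : ℕ) (hd : ∀ Q : PrimeSpectrum C, FlatMor.localDim (PrimeSpectrum C) Q = d) (m : ℕ)
    (hS : LocCoh.HasSk m C C) (i : ℤ) (hi : i ≠ -(d : ℤ)) (Q : PrimeSpectrum C)
    (hQ : Q ∈ Module.support C (Dual.HD C ω i)) :
    ∃ e : ℕ, ringKrullDim (C ⧸ Q.asIdeal) = e ∧ (e : ℤ) ≤ -i - m := by
  obtain ⟨hmin, hδ⟩ := delta_eq k h hgen d hd
  have hc : ∀ q : PrimeSpectrum C, q.asIdeal ∈ (Module.annihilator C C).minimalPrimes → δ q = d := by
    intro q hq
    rw [Module.annihilator_eq_bot.mpr inferInstance] at hq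
    exact hmin q hq
  have h1 := (hasSk_iff h hc m).mp hS i hi Q (by rw [← support_HD]; exact hQ)
  obtain ⟨h2, -, h3⟩ := hδ Q
  exact ⟨(δ Q).toNat, h3, by omega⟩

end Field

section Rel

variable {R A : Type u} [CommRing R] [CommRing A] [IsNoetherianRing R] [IsNoetherianRing A]
  [Algebra R A] [Module.Flat R A] (n : ℕ) (ψ : MvPolynomial (Fin n) R →ₐ[R] A)
  (hψ : Function.Surjective ψ) [DRing.HasLBaseChange (algebraMap R (MvPolynomial (Fin n) R))]
  (Rψ : Dual.D (MvPolynomial (Fin n) R) ⥤ Dual.D A) (adj : DRing.restrictD ψ.toRingHom ⊣ Rψ)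
  (d : ℕ) (hd : ∀ q : PrimeSpectrum A,
    FlatMor.fibreDimAt (Spec.map (CommRingCat.ofHom (algebraMap R A))) q = d)

include hψ adj hd

theorem isGE_shriek : (Dual2.shriekVia n Rψ (Dual.inD R R)).IsGE (-(d : ℤ)) := by
  rw [DerivedCategory.isGE_iff]
  intro i hi
  refine @ModuleCat.isZero_of_subsingleton _ _ _ (?_ : Subsingleton
    (Dual.HD A (Dual2.shriekVia n Rψ (Dual.inD R R)) i))
  rw [← Module.support_eq_empty_iff (R := A), Set.eq_empty_iff_forall_notMem]
  intro q hq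
  have := ((S1790.result R A n ψ hψ Rψ adj d).1 q (hd q) i (Module.mem_support_iff.mp hq)).1
  omega

theorem exists_dim_fibre (m : ℕ) (p : PrimeSpectrum R)
    (hS : LocCoh.HasSk m (p.asIdeal.Fiber A) (p.asIdeal.Fiber A))
    (Q : PrimeSpectrum (p.asIdeal.Fiber A)) (q : PrimeSpectrum A)
    (hq : q.asIdeal = FibreTower.ctr p.asIdeal Q.asIdeal)
    (i : ℤ) (hi : i ≠ -(d : ℤ))
    (hqs : q ∈ Module.support A (Dual.HD A (Dual2.shriekVia n Rψ (Dual.inD R R)) i)) :
    ∃ e : ℕ, ringKrullDim (p.asIdeal.Fiber A ⧸ Q.asIdeal) = e ∧ (e : ℤ) ≤ -i - m := by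
  have hL : DRing.HasLBaseChange
      (Algebra.TensorProduct.includeRight : A →ₐ[R] p.asIdeal.Fiber A).toRingHom :=
    LBC.hasLBaseChange _
  obtain ⟨⟨a, b, hab⟩, hfin, -, -, hdz⟩ := S1801.result R A n ψ hψ Rψ adj
  have hdz' := hdz p.asIdeal.ResidueField
  have hFT : Algebra.FiniteType R A := Algebra.FiniteType.iff_quotient_mvPolynomial''.2 ⟨n, ψ, hψ⟩
  have hFC : Algebra.FiniteType p.asIdeal.ResidueField (p.asIdeal.Fiber A) := inferInstance
  obtain ⟨hNC, m', ψ', hψ', hL', ⟨e⟩⟩ :=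
    Core.exists_fibre_iso n ψ hψ Rψ adj p.asIdeal.ResidueField
  set ω := Dual2.shriekVia n Rψ (Dual.inD R R) with hω
  set ωC := (DRing.LBaseChange
    (Algebra.TensorProduct.includeRight : A →ₐ[R] p.asIdeal.Fiber A).toRingHom).obj ω with hωC
  have hLE : ω.IsLE b := by
    rw [DerivedCategory.isLE_iff]
    exact fun i hi => ModuleCat.isZero_iff_subsingleton.2 (hab i (Or.inr hi))
  have esupp : ∀ i : ℤ, Module.support (p.asIdeal.Fiber A) (Dual.HD (p.asIdeal.Fiber A) ωC i) =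
      Module.support (p.asIdeal.Fiber A) (Dual.HD (p.asIdeal.Fiber A) (Dual2.shriekVia m'
        (RAdj.RCoext ψ'.toRingHom) (Dual.inD p.asIdeal.ResidueField p.asIdeal.ResidueField)) i) :=
    fun i => LinearEquiv.support_eq ((DerivedCategory.homologyFunctor
      (ModuleCat.{u} (p.asIdeal.Fiber A)) i).mapIso e).toLinearEquiv
  have hdQ : ∀ Q' : PrimeSpectrum (p.asIdeal.Fiber A),
      FlatMor.localDim (PrimeSpectrum (p.asIdeal.Fiber A)) Q' = d := fun Q' => by
    rw [← FibDim.fibreDimAt_spec p Q' ⟨FibreTower.ctr p.asIdeal Q'.asIdeal, inferInstance⟩ rfl, hd]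
  obtain ⟨δ, hδ⟩ := exists_isDelta hdz'
  have hgen : ∀ (Q : PrimeSpectrum (p.asIdeal.Fiber A)), Q.asIdeal ∈ minimalPrimes _ → ∀ e : ℕ,
      ringKrullDim (p.asIdeal.Fiber A ⧸ Q.asIdeal) = e → ∀ i : ℤ,
        Q ∈ Module.support (p.asIdeal.Fiber A) (Dual.HD (p.asIdeal.Fiber A) ωC i) ↔
          i = -(e : ℤ) := by
    intro Q₀ hQ₀ e he i
    rw [esupp i]
    exact GenPt.mem_support_iff p.asIdeal.ResidueField (p.asIdeal.Fiber A) m' ψ' hψ'
      (RAdj.RCoext ψ'.toRingHom) (RAdj.coextAdj _) Q₀ hQ₀ e he i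
  have hsup := fun c : ℤ => Sup.fibre_sup_iff ω b hfin p.asIdeal Q q hq c
  -- the largest index
  obtain ⟨j, hj, hjmax⟩ := Int.exists_greatest_of_bdd (P := fun j => q ∈ Module.support A (Dual.HD A ω j))
    ⟨b, fun j hj => by
      by_contra hlt
      have h1 : Subsingleton (Dual.HD A ω j) := hab j (Or.inr (by omega))
      have hj' : q ∈ Module.support A (Dual.HD A ω j) := hj
      rw [Module.support_eq_empty] at hj'
      exact hj'⟩ ⟨i, hqs⟩
  have hij : i ≤ j := hjmax i hqs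
  have hdi : -(d : ℤ) ≤ i :=
    ((S1790.result R A n ψ hψ Rψ adj d).1 q (hd q) i (Module.mem_support_iff.mp hqs)).1
  have h1 : ∀ i : ℤ, j < i → Q ∉ Module.support _ (Dual.HD _ ωC i) :=
    (hsup j).mp fun i' hi' hmem => by
      have := hjmax i' hmem
      omega
  have h2 : ¬ ∀ i : ℤ, j - 1 < i → Q ∉ Module.support _ (Dual.HD _ ωC i) := by
    rw [← hsup (j - 1)]
    intro h3
    exact h3 j (by omega) hj
  push Not at h2
  obtain ⟨j', hj', hQj'⟩ := h2
  have h3 : j' = j := by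
    by_contra hne
    exact h1 j' (by omega) hQj'
  subst h3
  obtain ⟨e', he', hle⟩ := exists_dim_of_mem_support p.asIdeal.ResidueField hδ hgen d hdQ m hS j'
    (by omega) Q hQj'
  exact ⟨e', he', by omega⟩

end Rel

end K969.RelSupp
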