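import Groth.Agent.QGor.K969.RelSupp
import Groth.Agent.LoccohB.ShriekVan
import Groth.Agent.Ega43.FibChev

/-!
# Vanishing of `Hom(H^i(ω), ω[k + i])` for a relative dualizing complex whose fibres satisfy `(S_m)`

`R → A` flat of finite type of Noetherian rings, all fibres of pure dimension `d` with `(S_m)`, `ω = φ^!(R)`:
* `hom_homology_eq_zero`: `Hom(H^i(ω), ω[k + i]) = 0` for `i ≠ -d` and `k < m`;
* `toEnd_bijective`: if `2 ≤ m` then `A → End(H^{-d}(ω))` is bijective;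
* `ext_one_eq_zero`: if `3 ≤ m` then `Ext^1(H^{-d}(ω), H^{-d}(ω)) = 0`.
-/

set_option autoImplicit false
universe u

open CategoryTheory AlgebraicGeometry
open scoped TensorProduct

attribute [local instance] HasDerivedCategory.standard

namespace K969.RelVan

open Groth.Agent Groth.Agent.LoccohB Groth.Agent.Ega4C Groth.Agent.Dual.H319
open DerivedCategory Limits

section Quot

variable {R A : Type u} [CommRing R] [CommRing A] [Algebra R A]

/-- The local fibre dimension of a closed subscheme through the primes of the fibres. -/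
theorem fibreDimAt_quotient_le [Algebra.FiniteType R A] (I : Ideal A) (q : PrimeSpectrum (A ⧸ I)) (e : ℕ)
    (h : ∀ (p : PrimeSpectrum R) (Q : PrimeSpectrum (p.asIdeal.Fiber A)),
      I ≤ FibreTower.ctr p.asIdeal Q.asIdeal → ringKrullDim (p.asIdeal.Fiber A ⧸ Q.asIdeal) ≤ e) :
    FlatMor.fibreDimAt (Spec.map (CommRingCat.ofHom (algebraMap R (A ⧸ I)))) q ≤ e := by
  let p : PrimeSpectrum R := PrimeSpectrum.comap (algebraMap R (A ⧸ I)) q
  obtain ⟨Q, hQ, hQq⟩ := FibreTower.exists_prime_fibre p.asIdeal q.asIdeal rfl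
  have hFT : Algebra.FiniteType R (A ⧸ I) := inferInstance
  have hFC : Algebra.FiniteType p.asIdeal.ResidueField (p.asIdeal.Fiber (A ⧸ I)) := inferInstance
  rw [FibDim.fibreDimAt_spec p ⟨Q, hQ⟩ q hQq.symm]
  refine FibDim.localDim_le p.asIdeal.ResidueField ⟨Q, hQ⟩ _ fun t ht htQ => ?_
  have htp : t.IsPrime := ht.1.1
  let π : p.asIdeal.Fiber A →ₐ[R] p.asIdeal.Fiber (A ⧸ I) :=
    Algebra.TensorProduct.map (AlgHom.id R p.asIdeal.ResidueField) (Ideal.Quotient.mkₐ R I)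
  have hπ : Function.Surjective π.toRingHom :=
    TensorProduct.map_surjective Function.surjective_id (Ideal.Quotient.mkₐ_surjective R I)
  rw [← Ega43.FibChev.ringKrullDim_quotient_comap π.toRingHom hπ t]
  refine h p ⟨t.comap π.toRingHom, inferInstance⟩ ?_
  intro x hx
  change π ((1 : p.asIdeal.ResidueField) ⊗ₜ[R] x) ∈ t
  have h0 : (Ideal.Quotient.mkₐ R I) x = 0 := Ideal.Quotient.eq_zero_iff_mem.mpr hx
  have : π ((1 : p.asIdeal.ResidueField) ⊗ₜ[R] x) = 0 := by
    change (AlgHom.id R p.asIdeal.ResidueField) 1 ⊗ₜ[R] (Ideal.Quotient.mkₐ R I) x = 0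
    rw [h0, TensorProduct.tmul_zero]
  rw [this]
  exact zero_mem _

end Quot

section Torsion

variable {P A : Type u} [CommRing P] [CommRing A] (ψ : P →+* A)

/-- If every map `N → K[j]` in `D(P)` is killed by something outside `ψ⁻¹ q`, then so is every map
`N → R_ψ(K)[n][t]` in `D(A)`, `n + t = j`. -/
theorem torsion_hom {Rψ : Dual.D P ⥤ Dual.D A} (adj : DRing.restrictD ψ ⊣ Rψ) (K : Dual.D P)
    (n t j : ℤ) (h : n + t = j) (N : ModuleCat.{u} A) (q : Ideal A)
    (hK : ∀ f : (singleFunctor (ModuleCat.{u} P) 0).obj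
      ((ModuleCat.restrictScalars.{u} ψ).obj N) ⟶ K⟦j⟧,
        ∃ s : P, ψ s ∉ q ∧ s • f = 0)
    (x : (singleFunctor (ModuleCat.{u} A) 0).obj N ⟶ ((Rψ.obj K)⟦n⟧)⟦t⟧) :
    ∃ s : A, s ∉ q ∧ s • x = 0 := by
  obtain ⟨e⟩ := LBC.radj_shift ψ adj K j
  let e' : ((Rψ.obj K)⟦n⟧)⟦t⟧ ≅ Rψ.obj (K⟦j⟧) :=
    ((shiftFunctorAdd' (Dual.D A) n t j h).app (Rψ.obj K)).symm ≪≫ e.symm
  let r : (DRing.restrictD ψ).obj ((singleFunctor (ModuleCat.{u} A) 0).obj N) ≅
      (singleFunctor (ModuleCat.{u} P) 0).obj ((ModuleCat.restrictScalars.{u} ψ).obj N) :=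
    ((ModuleCat.restrictScalars.{u} ψ).mapDerivedCategorySingleFunctor 0).app _
  let g : (DRing.restrictD ψ).obj ((singleFunctor (ModuleCat.{u} A) 0).obj N) ⟶ K⟦j⟧ :=
    (adj.homEquiv _ _).symm (x ≫ e'.hom)
  obtain ⟨s, hs, hsg⟩ := hK (r.inv ≫ g)
  refine ⟨ψ s, hs, ?_⟩
  have h1 : s • g = 0 := by
    have : s • g = r.hom ≫ (s • (r.inv ≫ g)) := by
      rw [Linear.comp_smul, Iso.hom_inv_id_assoc]
    rw [this, hsg, comp_zero]
  have h2 : x ≫ e'.hom = adj.homEquiv _ _ g := by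
    rw [Equiv.apply_symm_apply]
  have h3 : (ψ s • x) ≫ e'.hom = 0 := by
    rw [Linear.smul_comp, h2, ← LBC.radj_homEquiv_smul, h1]
    have : (adj.homEquiv ((singleFunctor (ModuleCat.{u} A) 0).obj N) (K⟦j⟧)) 0 = 0 := by
      rw [Adjunction.homEquiv_unit]
      have := adj.right_adjoint_additive
      rw [Functor.map_zero, comp_zero]
    exact this
  rw [← cancel_mono e'.hom, h3, zero_comp]

theorem eq_zero_of_torsion {M : Type*} [AddCommGroup M] [Module A M] (x : M)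
    (h : ∀ q : PrimeSpectrum A, ∃ s : A, s ∉ q.asIdeal ∧ s • x = 0) : x = 0 := by
  by_contra hx
  let I : Ideal A := LinearMap.ker (LinearMap.toSpanSingleton A M x)
  have hI : I ≠ ⊤ := by
    intro hI
    have h2 : (1 : A) ∈ I := by rw [hI]; trivial
    have h3 : (1 : A) • x = 0 := h2
    exact hx (by rwa [one_smul] at h3)
  obtain ⟨q, hq, hIq⟩ := Ideal.exists_le_maximal I hI
  obtain ⟨s, hs, hsx⟩ := h ⟨q, hq.isPrime⟩
  exact hs (hIq hsx)

end Torsion

section Main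

variable {R A : Type u} [CommRing R] [CommRing A] [IsNoetherianRing R] [IsNoetherianRing A]
  [Algebra R A] [Module.Flat R A] (n : ℕ) (ψ : MvPolynomial (Fin n) R →ₐ[R] A)
  (hψ : Function.Surjective ψ) [DRing.HasLBaseChange (algebraMap R (MvPolynomial (Fin n) R))]
  (Rψ : Dual.D (MvPolynomial (Fin n) R) ⥤ Dual.D A) (adj : DRing.restrictD ψ.toRingHom ⊣ Rψ)

include hψ adj

omit [IsNoetherianRing A] [Module.Flat R A] in
/-- A finite `A`-module `N` whose support has fibres of dimension `≤ e`: `Hom(N, ω[t]) = 0` for `t + e < 0`. -/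
theorem hom_eq_zero_of_dim (N : ModuleCat.{u} A) [Module.Finite A N] (e : ℕ)
    (he : ∀ (p : PrimeSpectrum R) (Q : PrimeSpectrum (p.asIdeal.Fiber A)) (q : PrimeSpectrum A),
      q.asIdeal = FibreTower.ctr p.asIdeal Q.asIdeal → q ∈ Module.support A N →
        ringKrullDim (p.asIdeal.Fiber A ⧸ Q.asIdeal) ≤ e) (t : ℤ) (ht : t + e < 0) :
    Subsingleton ((singleFunctor (ModuleCat.{u} A) 0).obj N ⟶
      (Dual2.shriekVia n Rψ (Dual.inD R R))⟦t⟧) := by
  have hFT : Algebra.FiniteType R A := Algebra.FiniteType.iff_quotient_mvPolynomial''.2 ⟨n, ψ, hψ⟩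
  let I : Ideal A := Module.annihilator A N
  suffices H : ∀ x : ((singleFunctor (ModuleCat.{u} A) 0).obj N ⟶
      (Dual2.shriekVia n Rψ (Dual.inD R R))⟦t⟧), x = 0 from ⟨fun x y => by rw [H x, H y]⟩
  intro x
  refine eq_zero_of_torsion (A := A) x fun q => ?_
  by_cases hq : I ≤ q.asIdeal
  · let P := MvPolynomial (Fin n) R
    let e1 : (DRing.LBaseChange (algebraMap R P)).obj (Dual.inD R R) ≅
        (DerivedCategory.singleFunctor (ModuleCat.{u} P) 0).obj (ModuleCat.of P P) :=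
      LBC.lbcSelfIso (algebraMap R P) 0
    let e2 : ModuleCat.of P P ≅ ModuleCat.of P (P ⊗[R] R) :=
      (TensorProduct.AlgebraTensorModule.rid R P P).symm.toModuleIso
    let e3 : (DRing.LBaseChange (algebraMap R P)).obj (Dual.inD R R) ≅
        (DerivedCategory.singleFunctor (ModuleCat.{u} P) 0).obj (ModuleCat.of P (P ⊗[R] R)) :=
      e1 ≪≫ (DerivedCategory.singleFunctor (ModuleCat.{u} P) 0).mapIso e2
    let ψ' : P →ₐ[R] (A ⧸ I) := (Ideal.Quotient.mkₐ R I).comp ψ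
    have hψ' : Function.Surjective ψ' := (Ideal.Quotient.mkₐ_surjective R I).comp hψ
    have hq' : q ∈ Set.range (PrimeSpectrum.comap (Ideal.Quotient.mk I)) := by
      rw [range_comap_of_surjective _ _ Ideal.Quotient.mk_surjective,
        PrimeSpectrum.mem_zeroLocus, Ideal.mk_ker]
      exact hq
    obtain ⟨q', hqq'⟩ := hq'
    have hdim := fibreDimAt_quotient_le (R := R) I q' e fun p Q hQ =>
      he p Q ⟨FibreTower.ctr p.asIdeal Q.asIdeal, inferInstance⟩ rfl
        (Module.mem_support_iff_of_finite.mpr hQ)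
    obtain ⟨m, hm, fs, hqm, hfs, hlen, hreg⟩ := FibreReg.exists_seq n ψ' hψ' q' e hdim
    refine torsion_hom ψ.toRingHom adj
      ((DRing.LBaseChange (algebraMap R P)).obj (Dual.inD R R)) n t (n + t) rfl N q.asIdeal ?_ x
    intro f
    obtain ⟨s, hs, hsf⟩ := ShriekVan.hom_torsion m
      ((ModuleCat.restrictScalars.{u} ψ.toRingHom).obj N) fs
      (fun g hg (y : N) => by
        change ψ g • y = 0
        have h1 : ψ g ∈ I := Ideal.Quotient.eq_zero_iff_mem.mp (hfs g hg)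
        exact Module.mem_annihilator.mp h1 y)
      (ModuleCat.of P (P ⊗[R] R)) (hreg R) (n + t)
      (by
        have h1 : (n : ℤ) ≤ fs.length + e := by exact_mod_cast hlen
        linarith)
      (f ≫ (CategoryTheory.shiftFunctor _ ((n : ℤ) + t)).map e3.hom)
    refine ⟨s, fun h => hs (hqm ?_), ?_⟩
    · rw [← hqq'] at h
      exact h
    rw [← Linear.smul_comp] at hsf
    have h1 : s • f = ((s • f) ≫ (CategoryTheory.shiftFunctor _ ((n : ℤ) + t)).map e3.hom) ≫
        (CategoryTheory.shiftFunctor _ ((n : ℤ) + t)).map e3.inv := by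
      rw [Category.assoc, ← CategoryTheory.Functor.map_comp, e3.hom_inv_id,
        CategoryTheory.Functor.map_id, Category.comp_id]
    rw [h1, hsf, Limits.zero_comp]
  · obtain ⟨s, hs, hsq⟩ := SetLike.not_le_iff_exists.mp hq
    refine ⟨s, hsq, ?_⟩
    have h1 : s • 𝟙 N = 0 := by
      ext y
      exact Module.mem_annihilator.mp hs y
    have h2 : s • x = (s • 𝟙 ((singleFunctor (ModuleCat.{u} A) 0).obj N)) ≫ x := by
      rw [Linear.smul_comp, Category.id_comp]
    rw [h2, ← CategoryTheory.Functor.map_id, ← CategoryTheory.Functor.map_smul, h1,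
      CategoryTheory.Functor.map_zero, zero_comp]

variable (d : ℕ) (hd : ∀ q : PrimeSpectrum A,
    FlatMor.fibreDimAt (Spec.map (CommRingCat.ofHom (algebraMap R A))) q = d) (m : ℕ)
  (hS : ∀ p : PrimeSpectrum R, LocCoh.HasSk m (p.asIdeal.Fiber A) (p.asIdeal.Fiber A))

include hd hS

theorem hom_homology_eq_zero (i : ℤ) (hi : i ≠ -(d : ℤ)) (k : ℤ) (hk : k < m) :
    Subsingleton ((singleFunctor (ModuleCat.{u} A) 0).obj ((homologyFunctor (ModuleCat.{u} A) i).obj
      (Dual2.shriekVia n Rψ (Dual.inD R R))) ⟶ (Dual2.shriekVia n Rψ (Dual.inD R R))⟦k + i⟧) := by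
  have hfin : Module.Finite A ((homologyFunctor (ModuleCat.{u} A) i).obj
      (Dual2.shriekVia n Rψ (Dual.inD R R))) := (S1801.result R A n ψ hψ Rψ adj).2.1 i
  have key := fun (p : PrimeSpectrum R) Q q hq hqs =>
    RelSupp.exists_dim_fibre n ψ hψ Rψ adj d hd m p (hS p) Q q hq i hi hqs
  by_cases him : 0 ≤ -i - m
  · refine hom_eq_zero_of_dim n ψ hψ Rψ adj _ (-i - m).toNat (fun p Q q hq hqs => ?_) (k + i) (by omega)
    obtain ⟨e, he, hle⟩ := key p Q q hq hqs
    rw [he]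
    exact_mod_cast (by omega : e ≤ (-i - m).toNat)
  · have h0 : Subsingleton (Dual.HD A (Dual2.shriekVia n Rψ (Dual.inD R R)) i) := by
      rw [← Module.support_eq_empty_iff (R := A), Set.eq_empty_iff_forall_notMem]
      intro q hq
      obtain ⟨Q, hQ, hQq⟩ := FibreTower.exists_prime_fibre (q.asIdeal.comap (algebraMap R A))
        q.asIdeal rfl
      obtain ⟨e, -, he⟩ := key ⟨q.asIdeal.comap (algebraMap R A), inferInstance⟩ ⟨Q, hQ⟩ q hQq.symm hq
      omega
    have h1 : IsZero ((homologyFunctor (ModuleCat.{u} A) i).obj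
      (Dual2.shriekVia n Rψ (Dual.inD R R))) := by
      exact @ModuleCat.isZero_of_subsingleton _ _ _ h0
    have h2 := (singleFunctor (ModuleCat.{u} A) 0).map_isZero h1
    exact ⟨fun f g => h2.eq_of_src f g⟩

end Main

section Gen

open Groth.Agent.LoccohA Groth.Agent.LoccohA.DzExact Groth.Agent.LoccohA.DzTrunc
  Groth.Agent.LoccohA.DzTrunc2 K967.EndTri

variable {A : Type u} [CommRing A] {ω : Dual.D A} (c : ℤ)

/-- The lowest truncation is a shifted module. -/
theorem nonempty_iso_lowest (h0 : ω.IsGE (-c)) :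
    Nonempty ((TStructure.t.truncLE (-c)).obj ω ≅ (singleFunctor (ModuleCat.{u} A) (-c)).obj
      (ModuleCat.of A (Dual.HD A ω (-c)))) := by
  have h1 : IsGE ((TStructure.t.truncLE (-c)).obj ω) (-c) := by
    change TStructure.t.IsGE _ _
    infer_instance
  have h2 : IsLE ((TStructure.t.truncLE (-c)).obj ω) (-c) := by
    change TStructure.t.IsLE _ _
    infer_instance
  obtain ⟨e⟩ := nonempty_iso_single ((TStructure.t.truncLE (-c)).obj ω) (-c)
  have := isIso_homology_truncLE ω (-c) (-c) le_rfl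
  exact ⟨e ≪≫ (singleFunctor (ModuleCat.{u} A) (-c)).mapIso
    (asIso ((homologyFunctor (ModuleCat.{u} A) (-c)).map ((TStructure.t.truncLEι (-c)).app ω)))⟩

/-- Dévissage of the upper truncation. -/
theorem hom_truncGE_eq_zero (b : ℤ) (hb : ω.IsLE b) (k : ℤ)
    (h : ∀ i : ℤ, -c < i → Subsingleton ((singleFunctor (ModuleCat.{u} A) 0).obj
      ((homologyFunctor (ModuleCat.{u} A) i).obj ω) ⟶ ω⟦k + i⟧)) :
    Subsingleton ((TStructure.t.truncGE (-c + 1)).obj ω ⟶ ω⟦k⟧) := by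
  have h1 : IsGE ((TStructure.t.truncGE (-c + 1)).obj ω) (-c + 1) := by
    change TStructure.t.IsGE _ _
    infer_instance
  have h2 : IsLE ((TStructure.t.truncGE (-c + 1)).obj ω) b := by
    change TStructure.t.IsLE _ _
    infer_instance
  have hP := closed_subsingleton (A := A)
  refine hom_of_truncation' hP ω k (-c + 1) b _ fun i => ?_
  by_cases hi : -c + 1 ≤ i
  · have := isIso_homology_truncGE ω (-c + 1) i hi
    exact hP.of_equiv (Linear.homCongr A ((singleFunctor (ModuleCat.{u} A) 0).mapIso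
      (asIso ((homologyFunctor (ModuleCat.{u} A) i).map ((TStructure.t.truncGEπ (-c + 1)).app ω))))
      (Iso.refl _)) (h i (by omega))
  · exact P_of_isZero hP ω i _ _ (isZero_of_isGE _ (-c + 1) i (by lia))

theorem toEnd_bijective_gen [IsNoetherianRing A] (h0 : ω.IsGE (-c))
    (h1 : ∀ k : ℤ, k < 2 → Subsingleton ((TStructure.t.truncGE (-c + 1)).obj ω ⟶ ω⟦k⟧))
    (hω : Function.Bijective (fun a : A => a • 𝟙 ω)) :
    Function.Bijective (fun r : A =>
      r • (LinearMap.id : Dual.HD A ω (-c) →ₗ[A] Dual.HD A ω (-c))) := by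
  have hT := TStructure.t.triangleLEGE_distinguished (-c) (-c + 1) (by lia) ω
  set T := (TStructure.t.triangleLEGE (-c) (-c + 1) (by lia)).obj ω with hTdef
  have hLE : TStructure.t.IsLE T.obj₁ (-c) := by
    change TStructure.t.IsLE ((TStructure.t.truncLE (-c)).obj ω) (-c)
    infer_instance
  have hGE : TStructure.t.IsGE T.obj₃ (-c + 1) := by
    change TStructure.t.IsGE ((TStructure.t.truncGE (-c + 1)).obj ω) (-c + 1)
    infer_instance
  have hLE' : TStructure.t.IsLE (T.obj₁⟦(1 : ℤ)⟧) (-c - 1) :=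
    TStructure.t.isLE_shift T.obj₁ (-c) 1 (-c - 1) (by lia)
  have h2 : Subsingleton (T.obj₃ ⟶ T.obj₂) := by
    have := h1 0 (by norm_num)
    exact (Iso.homCongr (Iso.refl T.obj₃)
      ((shiftFunctorZero (Dual.D A) ℤ).app T.obj₂)).symm.subsingleton_congr.mpr this
  have h3 : Subsingleton (T.obj₃ ⟶ T.obj₂⟦(1 : ℤ)⟧) := h1 1 (by norm_num)
  have h4 : Subsingleton (T.obj₁⟦(1 : ℤ)⟧ ⟶ T.obj₃) :=
    ⟨fun f g => by
      rw [TStructure.t.zero f (-c - 1) (-c + 1) (by lia),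
        TStructure.t.zero g (-c - 1) (-c + 1) (by lia)]⟩
  have h5 := toEnd_bijective T hT h2 h3 h4 hω
  obtain ⟨e⟩ := nonempty_iso_lowest c h0
  exact bij_module (bij_of_fullyFaithful (singleFunctor (ModuleCat.{u} A) (-c)) (bij_of_iso e h5))

theorem ext_one_gen (h0 : ω.IsGE (-c)) (h1 : Subsingleton (ω ⟶ ω⟦(1 : ℤ)⟧))
    (h2 : Subsingleton ((TStructure.t.truncGE (-c + 1)).obj ω ⟶ ω⟦(2 : ℤ)⟧)) :
    Subsingleton (Dual.inD A (Dual.HD A ω (-c)) ⟶
      (Dual.inD A (Dual.HD A ω (-c)))⟦(1 : ℤ)⟧) := by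
  have hT := TStructure.t.triangleLEGE_distinguished (-c) (-c + 1) (by lia) ω
  set T := (TStructure.t.triangleLEGE (-c) (-c + 1) (by lia)).obj ω with hTdef
  have hLE : TStructure.t.IsLE T.obj₁ (-c) := by
    change TStructure.t.IsLE ((TStructure.t.truncLE (-c)).obj ω) (-c)
    infer_instance
  have hGE : TStructure.t.IsGE T.obj₃ (-c + 1) := by
    change TStructure.t.IsGE ((TStructure.t.truncGE (-c + 1)).obj ω) (-c + 1)
    infer_instance
  have h3 : Subsingleton (T.obj₁ ⟶ T.obj₃) :=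
    ⟨fun f g => by
      rw [TStructure.t.zero f (-c) (-c + 1) (by lia),
        TStructure.t.zero g (-c) (-c + 1) (by lia)]⟩
  have h4 := ext_one A T hT h1 h2 h3
  obtain ⟨e⟩ := nonempty_iso_lowest c h0
  set M := ModuleCat.of A (Dual.HD A ω (-c)) with hM
  have h5 : Subsingleton ((singleFunctor (ModuleCat.{u} A) (-c)).obj M ⟶
      ((singleFunctor (ModuleCat.{u} A) (-c)).obj M)⟦(1 : ℤ)⟧) :=
    (Iso.homCongr e ((shiftFunctor (Dual.D A) (1 : ℤ)).mapIso e)).symm.subsingleton_congr.mpr h4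
  have h6 := (singleShiftEquiv A M ((singleFunctor (ModuleCat.{u} A) (-c)).obj M) 1 (-c)
    (-c + 1) (by lia)).toEquiv.symm.subsingleton_congr.mpr h5
  have e7 : ((singleFunctor (ModuleCat.{u} A) (-c)).obj M)⟦(-c + 1 : ℤ)⟧ ≅
      ((singleFunctor (ModuleCat.{u} A) 0).obj M)⟦(1 : ℤ)⟧ :=
    (shiftFunctorAdd' (Dual.D A) (-c) 1 (-c + 1) rfl).app _ ≪≫
      (shiftFunctor (Dual.D A) (1 : ℤ)).mapIso
        (((singleFunctors (ModuleCat.{u} A)).shiftIso (-c) 0 (-c) (add_zero _)).app M)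
  exact (Iso.homCongr (Iso.refl _) e7).symm.subsingleton_congr.mpr h6

end Gen

section Final

variable {R A : Type u} [CommRing R] [CommRing A] [IsNoetherianRing R] [IsNoetherianRing A]
  [Algebra R A] [Module.Flat R A] (n : ℕ) (ψ : MvPolynomial (Fin n) R →ₐ[R] A)
  (hψ : Function.Surjective ψ) [DRing.HasLBaseChange (algebraMap R (MvPolynomial (Fin n) R))]
  (Rψ : Dual.D (MvPolynomial (Fin n) R) ⥤ Dual.D A) (adj : DRing.restrictD ψ.toRingHom ⊣ Rψ)
  (d : ℕ) (hd : ∀ q : PrimeSpectrum A,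
    FlatMor.fibreDimAt (Spec.map (CommRingCat.ofHom (algebraMap R A))) q = d)

include hψ adj hd

theorem hom_truncGE (m : ℕ)
    (hS : ∀ p : PrimeSpectrum R, LocCoh.HasSk m (p.asIdeal.Fiber A) (p.asIdeal.Fiber A)) (k : ℤ)
    (hk : k < m) :
    Subsingleton ((TStructure.t.truncGE (-(d : ℤ) + 1)).obj (Dual2.shriekVia n Rψ (Dual.inD R R)) ⟶
      (Dual2.shriekVia n Rψ (Dual.inD R R))⟦k⟧) := by
  obtain ⟨⟨a, b, hab⟩, -⟩ := S1801.result R A n ψ hψ Rψ adj
  have hLE : (Dual2.shriekVia n Rψ (Dual.inD R R)).IsLE b := by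
    rw [DerivedCategory.isLE_iff]
    exact fun i hi => ModuleCat.isZero_iff_subsingleton.2 (hab i (Or.inr hi))
  exact hom_truncGE_eq_zero (d : ℤ) b hLE k fun i hi =>
    hom_homology_eq_zero n ψ hψ Rψ adj d hd m hS i (by omega) k hk

/-- If the fibres are `(S_2)` then `A → End(H^{-d}(ω))` is bijective. -/
theorem toEnd_bijective
    (hS : ∀ p : PrimeSpectrum R, LocCoh.HasSk 2 (p.asIdeal.Fiber A) (p.asIdeal.Fiber A)) :
    Function.Bijective (fun r : A => r •
      (LinearMap.id : Dual.HD A (Dual2.shriekVia n Rψ (Dual.inD R R)) (-(d : ℤ)) →ₗ[A]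
        Dual.HD A (Dual2.shriekVia n Rψ (Dual.inD R R)) (-(d : ℤ)))) :=
  toEnd_bijective_gen (d : ℤ) (RelSupp.isGE_shriek n ψ hψ Rψ adj d hd)
    (fun k hk => hom_truncGE n ψ hψ Rψ adj d hd 2 hS k (by exact_mod_cast hk))
    (S1801.result R A n ψ hψ Rψ adj).2.2.2.1.1

/-- If the fibres are `(S_3)` then `Ext^1(H^{-d}(ω), H^{-d}(ω)) = 0`. -/
theorem ext_one_eq_zero
    (hS : ∀ p : PrimeSpectrum R, LocCoh.HasSk 3 (p.asIdeal.Fiber A) (p.asIdeal.Fiber A)) :
    Subsingleton (Dual.inD A (Dual.HD A (Dual2.shriekVia n Rψ (Dual.inD R R)) (-(d : ℤ))) ⟶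
      (Dual.inD A (Dual.HD A (Dual2.shriekVia n Rψ (Dual.inD R R)) (-(d : ℤ))))⟦(1 : ℤ)⟧) :=
  ext_one_gen (d : ℤ) (RelSupp.isGE_shriek n ψ hψ Rψ adj d hd)
    ((S1801.result R A n ψ hψ Rψ adj).2.2.2.1.2 1 one_ne_zero)
    (hom_truncGE n ψ hψ Rψ adj d hd 3 hS 2 (by norm_num))

end Final

end K969.RelVan
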