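import Groth.Agent.LoccohB.TildeLocD
import Groth.Agent.PerfB.TildeExact
import Groth.Prelude.Def_DualSh
import Mathlib.Algebra.Homology.DerivedCategory.SingleTriangle

/-!
# Splitting of extensions of `E^~` by `E^~` on an affine scheme

* `exists_section`: a short exact sequence `S` with `Hom(S.X₃, S.X₁[1]) = 0` has a section;
* `exists_section_tilde`: the same for `S.X₁ ≅ M^~`, `S.X₃ ≅ N^~` on `Spec B` and `Hom_{D(B)}(N, M[1]) = 0`;
* `exists_section_of_iso`: transport of sections along a factorization of functors.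
-/

set_option autoImplicit false
universe w v v' u u'

open CategoryTheory CategoryTheory.Limits AlgebraicGeometry Pretriangulated

attribute [local instance] HasDerivedCategory.standard

namespace K969.SplitSch

open DerivedCategory Groth.Agent Groth.Agent.LoccohB

theorem exists_section {C : Type u} [Category.{v} C] [Abelian C] [HasDerivedCategory.{w} C]
    {S : ShortComplex C} (hS : S.ShortExact)
    (h : Subsingleton ((singleFunctor C 0).obj S.X₃ ⟶ ((singleFunctor C 0).obj S.X₁)⟦(1 : ℤ)⟧)) :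
    ∃ s : S.X₃ ⟶ S.X₂, s ≫ S.g = 𝟙 _ := by
  obtain ⟨g, hg⟩ := Triangle.coyoneda_exact₃ _ hS.singleTriangle_distinguished
    (𝟙 ((singleFunctor C 0).obj S.X₃)) (h.elim _ _)
  obtain ⟨s, rfl⟩ := (singleFunctor C 0).map_surjective g
  refine ⟨s, (singleFunctor C 0).map_injective ?_⟩
  rw [CategoryTheory.Functor.map_comp, CategoryTheory.Functor.map_id]
  exact hg.symm

theorem exists_section_tilde {B : CommRingCat.{u}} (M N : ModuleCat.{u} B)
    (h : Subsingleton ((singleFunctor (ModuleCat.{u} B) 0).obj N ⟶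
      ((singleFunctor (ModuleCat.{u} B) 0).obj M)⟦(1 : ℤ)⟧))
    {S : ShortComplex (Spec B).Modules} (hS : S.ShortExact)
    (e₁ : S.X₁ ≅ (tilde.functor B).obj M) (e₃ : S.X₃ ≅ (tilde.functor B).obj N) :
    ∃ s : S.X₃ ⟶ S.X₂, s ≫ S.g = 𝟙 _ := by
  have := PerfB.TildeExact.preservesFiniteLimits_tilde B
  refine exists_section hS ?_
  let F := (tilde.functor B).mapDerivedCategory
  have hfull : F.Full := TildeLocD.full_tD
  have hfaith : F.Faithful := TildeLocD.faithful_tD
  let eM : (singleFunctor (Spec B).Modules 0).obj S.X₁ ≅ F.obj ((singleFunctor (ModuleCat.{u} B) 0).obj M) :=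
    (singleFunctor (Spec B).Modules 0).mapIso e₁ ≪≫
      (((tilde.functor B).mapDerivedCategorySingleFunctor 0).app M).symm
  let eN : (singleFunctor (Spec B).Modules 0).obj S.X₃ ≅ F.obj ((singleFunctor (ModuleCat.{u} B) 0).obj N) :=
    (singleFunctor (Spec B).Modules 0).mapIso e₃ ≪≫
      (((tilde.functor B).mapDerivedCategorySingleFunctor 0).app N).symm
  let eM1 : ((singleFunctor (Spec B).Modules 0).obj S.X₁)⟦(1 : ℤ)⟧ ≅
      F.obj (((singleFunctor (ModuleCat.{u} B) 0).obj M)⟦(1 : ℤ)⟧) :=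
    (shiftFunctor _ (1 : ℤ)).mapIso eM ≪≫ ((F.commShiftIso (1 : ℤ)).app _).symm
  refine (Iso.homCongr eN eM1).subsingleton_congr.mpr ?_
  refine ⟨fun f g => ?_⟩
  obtain ⟨f, rfl⟩ := F.map_surjective f
  obtain ⟨g, rfl⟩ := F.map_surjective g
  rw [h.elim f g]

/-- Transport of a section. -/
theorem exists_section_of_iso {C : Type u} [Category.{v} C] {D : Type u'} [Category.{v'} D]
    {F G : C ⥤ D} (e : F ≅ G) {X Y : C} (g : X ⟶ Y)
    (h : ∃ s : G.obj Y ⟶ G.obj X, s ≫ G.map g = 𝟙 _) :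
    ∃ s : F.obj Y ⟶ F.obj X, s ≫ F.map g = 𝟙 _ := by
  obtain ⟨s, hs⟩ := h
  refine ⟨e.hom.app Y ≫ s ≫ e.inv.app X, ?_⟩
  rw [Category.assoc, Category.assoc, ← e.inv.naturality, reassoc_of% hs, Iso.hom_inv_id_app]

theorem exists_section_comp {C : Type*} [Category C] {D : Type*} [Category D] {E : Type*}
    [Category E] {F : C ⥤ D} (H : D ⥤ E) {X Y : C} (g : X ⟶ Y)
    (h : ∃ s : F.obj Y ⟶ F.obj X, s ≫ F.map g = 𝟙 _) :
    ∃ s : (F ⋙ H).obj Y ⟶ (F ⋙ H).obj X, s ≫ (F ⋙ H).map g = 𝟙 _ := by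
  obtain ⟨s, hs⟩ := h
  refine ⟨H.map s, ?_⟩
  change H.map s ≫ H.map (F.map g) = 𝟙 _
  rw [← H.map_comp, hs]
  exact H.map_id _

end K969.SplitSch
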